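import Cfsg.Agent.Lib.Ext2.M23

/-!
# Extensions of `M23` by the Golay cocode module

`Coc.split`: such an extension splits when the invariant `lamB` vanishes; `Coc.equiv`: two non-split ones are isomorphic.
-/

set_option autoImplicit false

namespace Cfsg.Lib.Ext2

open Cfsg.Lib.Calc Cfsg.Lib.F2 Cfsg.Lib.Mathieu Finset
open Cfsg.Lib.Golay (G gIdx)

variable {E E' : Type*} [Group E] [Group E']

/-- An extension of `M23` by the cocode module. -/
structure Coc (π : E →* P24) (θ : Wd → E) : Prop where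
  rng : π.range = Spor.M23
  add : ∀ w w', θ (w + w') = θ w * θ w'
  mem : ∀ m, m ∈ π.ker ↔ ∃ w, θ w = m
  ker : ∀ w, θ w = 1 ↔ w ∈ golayCode ∨ w + Pi.single none 1 ∈ golayCode
  cj : ∀ g w, θ (w ∘ ⇑(π g)⁻¹) = g * θ w * g⁻¹

/-- The invariant of a family of tails. -/
noncomputable def lamB (ws : ℕ → Wd) : ZMod 2 :=
  ∑ r ∈ range 37, ∑ b ∈ range 11, z2 ((get 11 cB.lam r).testBit b) * ip b (ws r)

theorem lamB_add (ws ws' : ℕ → Wd) : lamB (fun r => ws r + ws' r) = lamB ws + lamB ws' := by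
  simp only [lamB, ip_add, mul_add, sum_add_distrib]

theorem wd_add_self (w : Wd) : w + w = 0 := funext fun x => CharTwo.add_self_eq_zero (w x)

namespace Coc

variable {π : E →* P24} {θ : Wd → E} {π' : E' →* P24} {θ' : Wd → E'}

theorem zero (h : Coc π θ) : θ 0 = 1 := (h.ker 0).2 (Or.inl (Submodule.zero_mem _))

theorem sq (h : Coc π θ) (w : Wd) : θ w * θ w = 1 := by rw [← h.add, wd_add_self, h.zero]

theorem eq_iff (h : Coc π θ) (w w' : Wd) : θ w = θ w' ↔ ∀ b < 11, ip b w = ip b w' := by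
  have : θ w = θ w' ↔ θ (w + w') = 1 := by rw [h.add, mul_eq_one_iff_eq_inv, inv_eq_of_mul_eq_one_left (h.sq w')]
  rw [this, h.ker, ← ip_eq_zero_iff]
  simp only [ip_add, CharTwo.add_eq_zero]

theorem split [Finite E] (h : Coc π θ) {x g : ℕ → E} (L : Lifts π x g) {ws : ℕ → Wd}
    (hw : ∀ r < 37, θ (ws r) = cB.tau x g r) (hl : lamB ws = 0) : ∃ H : Subgroup E, H ⊓ π.ker = ⊥ ∧ H ⊔ π.ker = ⊤ := by
  let ψ : ℕ → E → ZMod 2 := fun b m => ip b (Function.invFun θ m)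
  have hψ : ∀ b < 11, ∀ w, ψ b (θ w) = ip b w := fun b hb w =>
    (h.eq_iff _ _).1 (Function.invFun_eq ⟨w, rfl⟩) b hb
  have hM : Mod 11 π.ker ψ :=
    { add := fun b hb m hm m' hm' => by
        obtain ⟨w, rfl⟩ := (h.mem m).1 hm
        obtain ⟨w', rfl⟩ := (h.mem m').1 hm'
        rw [← h.add, hψ b hb, hψ b hb, hψ b hb, ip_add]
      ext := fun m hm m' hm' e => by
        obtain ⟨w, rfl⟩ := (h.mem m).1 hm
        obtain ⟨w', rfl⟩ := (h.mem m').1 hm'
        exact (h.eq_iff _ _).2 fun b hb => by rw [← hψ b hb, ← hψ b hb, e b hb]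
      surj := fun f => by
        obtain ⟨w, hw⟩ := exists_ip f
        exact ⟨θ w, (h.mem _).2 ⟨w, rfl⟩, fun b hb => by rw [hψ b hb, hw b hb]⟩ }
  have act : ∀ y c M, Rp (π y) c → allLt 11 (fun b => forceB (appA 24 Bp (get 11 M b) 11) fun v => allLt 24 fun q =>
      bit (get 24 Bp b) (get 5 c q) == bit v q) = true → Act 11 π.ker ψ y M := fun y c M hy e m hm b hb => by
    obtain ⟨w, rfl⟩ := (h.mem m).1 hm
    have e1 := of_allLt e hb
    rw [forceB_eq] at e1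
    rw [← h.cj, hψ b hb, phi, sum_congr rfl fun c hc => by rw [hψ c (mem_range.1 hc)]]
    simp only [ip, mul_sum]
    rw [sum_comm, ← Equiv.sum_comp (π y), sum_pt, sum_pt]
    refine sum_congr rfl fun q hq => ?_
    have hq := mem_range.1 hq
    have e2 := of_allLt e1 hq
    rw [beq_iff_eq, bit_eq, bit_eq] at e2
    rw [Function.comp_apply, Equiv.Perm.inv_def, Equiv.symm_apply_apply, hy.apply hq, wm_pt _ (hy.lt hq), e2, z2_appA,
      sum_mul]
    exact sum_congr rfl fun c _ => by rw [wm_pt _ hq, mul_assoc]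
  have e : band (allLt 7 fun a => allLt 11 fun b => forceB (appA 24 Bp (get 11 (nth 0 cB.ms a) b) 11) fun v =>
      allLt 24 fun q => bit (get 24 Bp b) (get 5 (nth (idc 24 5) us a) q) == bit v q) (allLt 3 fun a => allLt 11 fun b =>
      forceB (appA 24 Bp (get 11 (nth 0 cB.gs a) b) 11) fun v =>
      allLt 24 fun q => bit (get 24 Bp b) (get 5 (nth (idc 24 5) gs a) q) == bit v q) = true := by decide +kernel
  refine Cert.split cB_ok hM L.g0 (fun a ha => act _ _ _ (L.hx a) (of_allLt (band_eq_true.1 e).1 ha))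
    (fun a ha => act _ _ _ (L.hg a) (of_allLt (band_eq_true.1 e).2 ha)) (fun r hr => L.tau hr) (by decide)
    (index_ker h.rng) (Eq.trans ?_ hl)
  refine sum_congr rfl fun r hr => sum_congr rfl fun b hb => ?_
  rw [← hw r (mem_range.1 hr), hψ b (mem_range.1 hb)]; rfl

theorem exists_ws (h : Coc π θ) {x g : ℕ → E} (L : Lifts π x g) : ∃ ws : ℕ → Wd, ∀ r < 37, θ (ws r) = cB.tau x g r :=
  ⟨fun r => Function.invFun θ (cB.tau x g r), fun _ hr => Function.invFun_eq ((h.mem _).1 (L.tau hr))⟩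

theorem map_tau (f : E →* E') (x g : ℕ → E) (r : ℕ) :
    f (cB.tau x g r) = cB.tau (fun a => f (x a)) (fun k => f (g k)) r := by
  simp only [Cert.tau, map_mul, map_inv, map_wv]

/-- A subgroup of the product that is the graph of an isomorphism. -/
theorem equiv_of_sub (h : Coc π θ) (h' : Coc π' θ') {K : Subgroup (E × E')} (h1 : ∀ k ∈ K, π k.1 = π' k.2)
    (h2 : ∀ w, (θ w, θ' w) ∈ K) (h3 : ∀ k ∈ K, π k.1 = 1 → ∃ w, k = (θ w, θ' w))
    (h4 : ∀ s ∈ Spor.M23, ∃ k ∈ K, π k.1 = s) : Nonempty (E ≃* E') := by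
  have kk : ∀ w, θ w = 1 ↔ θ' w = 1 := fun w => by rw [h.ker, h'.ker]
  have b1 : Function.Bijective ((MonoidHom.fst E E').comp K.subtype) := by
    refine ⟨(injective_iff_map_eq_one _).2 fun k hk => ?_, fun y => ?_⟩
    · obtain ⟨w, hw⟩ := h3 k k.2 (by rw [show (k : E × E').1 = 1 from hk, map_one])
      have : θ w = 1 := (congrArg Prod.fst hw).symm.trans hk
      exact Subtype.ext (hw.trans (Prod.ext this ((kk w).1 this)))
    · obtain ⟨k, hk, e⟩ := h4 (π y) (h.rng ▸ ⟨y, rfl⟩)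
      obtain ⟨w, hw⟩ := (h.mem (y * k.1⁻¹)).1 (by rw [MonoidHom.mem_ker, map_mul, map_inv, e, mul_inv_cancel])
      exact ⟨⟨_, K.mul_mem (h2 w) hk⟩, by change θ w * k.1 = y; rw [hw, inv_mul_cancel_right]⟩
  have b2 : Function.Bijective ((MonoidHom.snd E E').comp K.subtype) := by
    refine ⟨(injective_iff_map_eq_one _).2 fun k hk => ?_, fun y => ?_⟩
    · obtain ⟨w, hw⟩ := h3 k k.2 (by rw [h1 k k.2, show (k : E × E').2 = 1 from hk, map_one])
      have : θ' w = 1 := (congrArg Prod.snd hw).symm.trans hk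
      exact Subtype.ext (hw.trans (Prod.ext ((kk w).2 this) this))
    · obtain ⟨k, hk, e⟩ := h4 (π' y) (h'.rng ▸ ⟨y, rfl⟩)
      obtain ⟨w, hw⟩ := (h'.mem (y * k.2⁻¹)).1
        (by rw [MonoidHom.mem_ker, map_mul, map_inv, ← h1 k hk, e, mul_inv_cancel])
      exact ⟨⟨_, K.mul_mem (h2 w) hk⟩, by change θ' w * k.2 = y; rw [hw, inv_mul_cancel_right]⟩
  exact ⟨(MulEquiv.ofBijective _ b1).symm.trans (MulEquiv.ofBijective _ b2)⟩

/-- Two non-split extensions are isomorphic. -/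
theorem equiv [Finite E] [Finite E'] (h : Coc π θ) (h' : Coc π' θ')
    (n : ∀ H : Subgroup E, H ⊓ π.ker = ⊥ → H ⊔ π.ker ≠ ⊤) (n' : ∀ H : Subgroup E', H ⊓ π'.ker = ⊥ → H ⊔ π'.ker ≠ ⊤) :
    Nonempty (E ≃* E') := by
  obtain ⟨x, g, L⟩ := exists_lifts h.rng
  obtain ⟨x', g', L'⟩ := exists_lifts h'.rng
  obtain ⟨ws, hw⟩ := h.exists_ws L
  obtain ⟨ws', hw'⟩ := h'.exists_ws L'
  have l1 : lamB ws ≠ 0 := fun e => by obtain ⟨H, h1, h2⟩ := h.split L hw e; exact n H h1 h2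
  have l2 : lamB ws' ≠ 0 := fun e => by obtain ⟨H, h1, h2⟩ := h'.split L' hw' e; exact n' H h1 h2
  have l3 : lamB (fun r => ws r + ws' r) = 0 := by
    rw [lamB_add]; revert l1 l2; generalize lamB ws = a; generalize lamB ws' = b; revert a b; decide
  have k1 : ∀ w, π (θ w) = 1 := fun w => (h.mem _).2 ⟨w, rfl⟩
  have k2 : ∀ w, π' (θ' w) = 1 := fun w => (h'.mem _).2 ⟨w, rfl⟩
  let D : Subgroup (E × E') := (π.comp (MonoidHom.fst E E')).eqLocus (π'.comp (MonoidHom.snd E E'))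
  let t : Wd → Wd → D := fun w w' => ⟨(θ w, θ' w'), (k1 w).trans (k2 w').symm⟩
  have t_add : ∀ a b c d, t (a + c) (b + d) = t a b * t c d := fun a b c d =>
    Subtype.ext (Prod.ext (h.add _ _) (h'.add _ _))
  let p : D →* P24 := (π.comp (MonoidHom.fst E E')).comp D.subtype
  have t_cj : ∀ (y : D) a b, t (a ∘ ⇑(p y)⁻¹) (b ∘ ⇑(p y)⁻¹) = y * t a b * y⁻¹ := fun y a b =>
    Subtype.ext (Prod.ext (h.cj _ _) (by rw [show p y = π' y.1.2 from y.2]; exact h'.cj _ _))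
  have t_mem : ∀ y : D, p y = 1 → ∃ a b, t a b = y := fun y hy => by
    obtain ⟨a, ha⟩ := (h.mem y.1.1).1 hy
    obtain ⟨b, hb⟩ := (h'.mem y.1.2).1 ((show π' y.1.2 = p y from y.2.symm).trans hy)
    exact ⟨a, b, Subtype.ext (Prod.ext ha hb)⟩
  have t0 : t 0 0 = 1 := Subtype.ext (Prod.ext h.zero h'.zero)
  let Δ : Subgroup D :=
    { carrier := Set.range fun w => t w w
      mul_mem' := by rintro _ _ ⟨a, rfl⟩ ⟨b, rfl⟩; exact ⟨a + b, t_add _ _ _ _⟩
      one_mem' := ⟨0, t0⟩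
      inv_mem' := by
        rintro _ ⟨a, rfl⟩
        exact ⟨a, eq_inv_of_mul_eq_one_left (by rw [← t_add, wd_add_self, t0])⟩ }
  have : Δ.Normal := ⟨by rintro _ ⟨a, rfl⟩ y; exact ⟨_, t_cj y a a⟩⟩
  have hΔ : Δ ≤ p.ker := by rintro _ ⟨a, rfl⟩; exact k1 a
  let q := QuotientGroup.mk' Δ
  have qt : ∀ a b, q (t a b) = q (t (a + b) 0) := fun a b => by
    have : t a b = t (a + b) 0 * t b b := by rw [← t_add, add_assoc, wd_add_self, add_zero, zero_add]
    rw [this, map_mul, show q (t b b) = 1 from (QuotientGroup.eq_one_iff _).2 ⟨b, rfl⟩, mul_one]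
  have hp : ∀ s ∈ Spor.M23, ∃ y, p y = s := fun s hs => by
    obtain ⟨a, ha⟩ : s ∈ π.range := h.rng ▸ hs
    obtain ⟨b, hb⟩ : s ∈ π'.range := h'.rng ▸ hs
    exact ⟨⟨(a, b), ha.trans hb.symm⟩, ha⟩
  have hQ : Coc (QuotientGroup.lift Δ p hΔ) fun w => q (t w 0) :=
    { rng := le_antisymm (by
          rintro _ ⟨y, rfl⟩
          obtain ⟨y, rfl⟩ := QuotientGroup.mk'_surjective Δ y
          exact h.rng ▸ ⟨y.1.1, rfl⟩) fun s hs => by obtain ⟨y, hy⟩ := hp s hs; exact ⟨q y, hy⟩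
      add := fun a b => by rw [← map_mul, ← t_add, add_zero]
      mem := fun y => by
        obtain ⟨y, rfl⟩ := QuotientGroup.mk'_surjective Δ y
        refine ⟨fun hy => ?_, fun ⟨w, hw⟩ => hw ▸ k1 w⟩
        obtain ⟨a, b, rfl⟩ := t_mem y hy
        exact ⟨a + b, (qt a b).symm⟩
      ker := fun w => by
        rw [← h.ker]
        refine (QuotientGroup.eq_one_iff _).trans ⟨fun ⟨a, ha⟩ => ?_, fun e => ⟨0, Subtype.ext (Prod.ext ?_ rfl)⟩⟩
        · have e1 : θ a = θ w := congrArg (fun y : D => y.1.1) ha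
          have e2 : θ' a = θ' 0 := congrArg (fun y : D => y.1.2) ha
          rw [← e1, h.ker, ← h'.ker, e2, h'.zero]
        · exact h.zero.trans e.symm
      cj := fun y w => by
        obtain ⟨y, rfl⟩ := QuotientGroup.mk'_surjective Δ y
        exact (congrArg q (t_cj y w 0)).trans (by rw [map_mul, map_mul, map_inv]) }
  let X : ℕ → D := fun a => ⟨(x a, x' a), (L.hx a).eq (L'.hx a)⟩
  let Y : ℕ → D := fun a => ⟨(g a, g' a), (L.hg a).eq (L'.hg a)⟩
  obtain ⟨H, h1, h2⟩ := hQ.split (x := fun a => q (X a)) (g := fun a => q (Y a))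
    ⟨L.hx, L.hg, by rw [show Y 0 = 1 from Subtype.ext (Prod.ext L.g0 L'.g0), map_one]⟩ (fun r hr => by
      rw [← map_tau, ← qt]
      congr 1
      refine Subtype.ext (Prod.ext ((hw r hr).trans ?_) ((hw' r hr).trans ?_))
      · exact (map_tau ((MonoidHom.fst E E').comp D.subtype) X Y r).symm
      · exact (map_tau ((MonoidHom.snd E E').comp D.subtype) X Y r).symm) l3
  refine equiv_of_sub h h' (K := (H.comap q).map D.subtype) ?_ (fun w => ⟨t w w, ?_, rfl⟩) ?_ fun s hs => ?_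
  · rintro _ ⟨k, -, rfl⟩; exact k.2
  · change q (t w w) ∈ H
    rw [show q (t w w) = 1 from (QuotientGroup.eq_one_iff _).2 ⟨w, rfl⟩]; exact H.one_mem
  · rintro _ ⟨k, hk, rfl⟩ e
    obtain ⟨w, hw⟩ : k ∈ Δ := (QuotientGroup.eq_one_iff _).1 (Subgroup.mem_bot.1 (h1 ▸ ⟨hk, e⟩ : q k ∈ ⊥))
    exact ⟨w, (congrArg Subtype.val hw).symm⟩
  · obtain ⟨y, rfl⟩ := hp s hs
    obtain ⟨a, ha, b, hb, e⟩ := Subgroup.mem_sup_of_normal_right.1 (h2 ▸ Subgroup.mem_top (q y))
    obtain ⟨a, rfl⟩ := QuotientGroup.mk'_surjective Δ a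
    refine ⟨a, ⟨a, ha, rfl⟩, ?_⟩
    have := congrArg (QuotientGroup.lift Δ p hΔ) e
    rwa [map_mul, show QuotientGroup.lift Δ p hΔ b = 1 from hb, mul_one] at this

end Coc

/-- The homomorphism to the permutations given by an isomorphism of the quotient. -/
def quoHom (N : Subgroup E) [N.Normal] (φ : E ⧸ N ≃* Spor.M23) : E →* P24 :=
  Spor.M23.subtype.comp (φ.toMonoidHom.comp (QuotientGroup.mk' N))

theorem ker_quoHom (N : Subgroup E) [N.Normal] (φ : E ⧸ N ≃* Spor.M23) : (quoHom N φ).ker = N := by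
  ext y; simp [quoHom, MonoidHom.mem_ker]

theorem range_quoHom (N : Subgroup E) [N.Normal] (φ : E ⧸ N ≃* Spor.M23) : (quoHom N φ).range = Spor.M23 := by
  refine le_antisymm (by rintro _ ⟨y, rfl⟩; exact (φ y).2) fun s hs => ?_
  obtain ⟨y, hy⟩ := QuotientGroup.mk'_surjective N (φ.symm ⟨s, hs⟩)
  exact ⟨y, by change (φ (QuotientGroup.mk' N y) : P24) = s; rw [hy, MulEquiv.apply_symm_apply]⟩

theorem coc_of (N : Subgroup E) [N.Normal] (φ : E ⧸ N ≃* Spor.M23) (θ : Wd →+ Additive N)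
    (hsurj : Function.Surjective θ) (hker : ∀ w, θ w = 0 ↔ (w ∈ golayCode ∨ w + Pi.single none 1 ∈ golayCode))
    (hθ : ∀ (g : E) (w : Wd), ((θ (w ∘ ⇑((φ (QuotientGroup.mk g) : P24)⁻¹))).toMul : E) = g * ((θ w).toMul : E) * g⁻¹) :
    Coc (quoHom N φ) fun w => ((θ w).toMul : E) where
  rng := range_quoHom N φ
  add w w' := by rw [map_add]; rfl
  mem m := by
    rw [ker_quoHom]
    refine ⟨fun hm => ?_, fun ⟨w, hw⟩ => hw ▸ (θ w).toMul.2⟩
    obtain ⟨w, hw⟩ := hsurj (Additive.ofMul ⟨m, hm⟩)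
    exact ⟨w, by rw [hw]; rfl⟩
  ker w := by rw [← hker]; exact ⟨fun h => Subtype.ext h, fun h => by rw [h]; rfl⟩
  cj := hθ

end Cfsg.Lib.Ext2
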