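import Cfsg.Agent.Lib.Ext2.Coc
import Cfsg.Agent.S2036
import Cfsg.Agent.S2037

/-!
# The non-split extension of the Golay cocode module by `M23`

The double cover of `M22` induces a non-split extension of the permutation module of degree 23 by `M23`; its quotient
by the Golay code does not split either.
-/

set_option autoImplicit false

namespace Cfsg.Lib.Ext2

open Cfsg.Lib.Mathieu Subgroup

/-- A non-split double cover. -/
structure Dbl {Γ H : Type} [Group Γ] [Group H] (σ : Γ →* H) (z : Γ) : Prop where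
  surj : Function.Surjective σ
  ne : z ≠ 1
  sq : z * z = 1
  cen : z ∈ center Γ
  ker : ∀ x, σ x = 1 ↔ x = 1 ∨ x = z
  der : z ∈ commutator Γ

theorem exists_dbl {H : Type} [Group H] (h : HasCyclicSchurMultiplier H 12) :
    ∃ (Γ : Type) (_ : Group Γ) (_ : Finite Γ) (σ : Γ →* H) (z : Γ), Dbl σ z := by
  obtain ⟨⟨Γ, _, _, σ, ⟨h1, h2, h3⟩, ⟨e⟩⟩, -⟩ := h
  let c : ZMod 12 → Γ := fun a => (e.symm (Multiplicative.ofAdd a) : σ.ker)
  have c_add : ∀ a b, c (a + b) = c a * c b := fun a b => by simp only [c, ofAdd_add, map_mul, coe_mul]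
  have c_mem : ∀ a, c a ∈ σ.ker := fun a => (e.symm _).2
  have c_inj : Function.Injective c := fun a b h => Multiplicative.ofAdd.injective (e.symm.injective (Subtype.ext h))
  have c_zero : c 0 = 1 := by simp [c]
  let S : Subgroup Γ :=
    { carrier := Set.range fun a => c (2 * a)
      mul_mem' := by rintro _ _ ⟨a, rfl⟩ ⟨b, rfl⟩; exact ⟨a + b, by rw [← c_add, ← mul_add]⟩
      one_mem' := ⟨0, (congrArg c (mul_zero 2)).trans c_zero⟩
      inv_mem' := by
        rintro _ ⟨a, rfl⟩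
        exact ⟨-a, eq_inv_of_mul_eq_one_left (by rw [← c_add, ← mul_add, neg_add_cancel, mul_zero, c_zero])⟩ }
  have hS : S ≤ σ.ker := by rintro _ ⟨a, rfl⟩; exact c_mem _
  have := Schur.normal_of_le_center (hS.trans h2)
  refine ⟨Γ ⧸ S, inferInstance, inferInstance, QuotientGroup.lift S σ hS, (c 1 : Γ), fun y => ?_, fun h => ?_, ?_, ?_,
    fun x => ?_, ?_⟩
  · obtain ⟨x, rfl⟩ := h1 y; exact ⟨x, rfl⟩
  · obtain ⟨a, ha⟩ := (QuotientGroup.eq_one_iff _).1 h
    exact (by decide : ∀ a : ZMod 12, 2 * a ≠ 1) a (c_inj ha)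
  · rw [← QuotientGroup.mk_mul, ← c_add]; exact (QuotientGroup.eq_one_iff _).2 ⟨1, congrArg c (by decide)⟩
  · refine mem_center_iff.2 fun y => ?_
    obtain ⟨y, rfl⟩ := QuotientGroup.mk_surjective y
    rw [← QuotientGroup.mk_mul, ← QuotientGroup.mk_mul, mem_center_iff.1 (h2 (c_mem 1))]
  · obtain ⟨x, rfl⟩ := QuotientGroup.mk_surjective x
    refine ⟨fun hx => ?_, ?_⟩
    · obtain ⟨a, rfl⟩ : ∃ a, c a = x := ⟨(e ⟨x, hx⟩).toAdd, by simp [c]⟩
      obtain ⟨b, rfl | rfl⟩ := (by decide : ∀ a : ZMod 12, ∃ b, a = 2 * b ∨ a = 1 + 2 * b) a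
      · exact Or.inl ((QuotientGroup.eq_one_iff _).2 ⟨b, rfl⟩)
      · right
        rw [c_add, QuotientGroup.mk_mul, (QuotientGroup.eq_one_iff (N := S) (c (2 * b))).2 ⟨b, rfl⟩, mul_one]
    · rintro (h | h) <;> rw [h]
      exacts [map_one _, c_mem 1]
  · have := mem_map_of_mem (QuotientGroup.mk' S) (h3 (c_mem 1))
    rw [map_commutator_eq] at this
    exact commutator_mono le_top le_top this

/-- An extension of the permutation module of degree 23 by `M23`. -/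
structure Ind {E : Type} [Group E] (π : E →* P24) (θ : Wd → E) : Prop where
  rng : π.range = Spor.M23
  add : ∀ w w', θ (w + w') = θ w * θ w'
  mem : ∀ m, m ∈ π.ker ↔ ∃ w, θ w = m
  ker : ∀ w, θ w = 1 ↔ ∀ x, w (some x) = 0
  cj : ∀ g w, θ (w ∘ ⇑(π g)⁻¹) = g * θ w * g⁻¹
  ns : ∀ K : Subgroup E, K ⊓ π.ker = ⊥ → K ⊔ π.ker ≠ ⊤

theorem exists_ind : ∃ (E : Type) (_ : Group E) (_ : Finite E) (π : E →* P24) (θ : Wd → E), Ind π θ := by
  classical
  obtain ⟨Γ, _, _, σ, z, D⟩ := exists_dbl Agent.S2036.result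
  have ht : ∀ x : ZMod 23, ∃ t ∈ Spor.M23, t (some 0) = some x := fun x => by
    obtain ⟨g, h1, h2⟩ := exists_map2 (a := none) (b := some 0) (a' := none) (b' := some x) (by simp) (by simp)
    exact ⟨g, ⟨g.2, h1⟩, h2⟩
  choose t ht ht' using ht
  let p : ZMod 23 × Γ → P24 := fun y => t y.1 * σ y.2
  have p0 : ∀ y, p y (some 0) = some y.1 := fun y => by
    change t y.1 ((σ y.2 : P24) (some 0)) = _
    rw [show (σ y.2 : P24) (some 0) = some 0 from (σ y.2).2.2, ht']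
  have p_mem : ∀ y, p y ∈ Spor.M23 := fun y => mul_mem (ht _) (σ y.2).2.1
  have p_mul : ∀ x a b, p (x, a * b) = p (x, a) * σ b := fun x a b => by simp only [p, map_mul, coe_mul, mul_assoc]
  have p_inj : ∀ y y', p y = p y' → y.1 = y'.1 ∧ (y.2 = y'.2 ∨ y.2 = y'.2 * z) := fun y y' h => by
    have h1 : y.1 = y'.1 := Option.some.inj (by rw [← p0, h, p0])
    have h2 : σ y.2 = σ y'.2 := Subtype.ext (mul_left_cancel (a := t y.1) (h.trans (by rw [h1])))
    refine ⟨h1, ((D.ker (y'.2⁻¹ * y.2)).1 (by rw [map_mul, map_inv, h2, inv_mul_cancel])).imp ?_ ?_⟩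
    exacts [fun h => (inv_mul_eq_one.1 h).symm, fun h => by rw [← h, mul_inv_cancel_left]]
  have p_surj : ∀ s ∈ Spor.M23, ∃ y, p y = s := fun s hs => by
    obtain ⟨x, hx⟩ := Option.ne_none_iff_exists'.1 (show s (some 0) ≠ none from fun h =>
      Option.some_ne_none _ (s.injective (h.trans (show s none = none from hs.2).symm)))
    obtain ⟨a, ha⟩ := D.surj ⟨(t x)⁻¹ * s, Spor.M23.mul_mem (Spor.M23.inv_mem (ht x)) hs, by
      change (t x)⁻¹ (s (some 0)) = some 0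
      rw [hx, ← ht' x, Equiv.Perm.inv_def, Equiv.symm_apply_apply]⟩
    exact ⟨(x, a), by simp only [p, ha, mul_inv_cancel_left]⟩
  let E : Subgroup (Equiv.Perm (ZMod 23 × Γ) × P24) :=
    { carrier := {e | e.2 ∈ Spor.M23 ∧ (∀ y, p (e.1 y) = e.2 * p y) ∧
        ∀ x a b, e.1 (x, a * b) = ((e.1 (x, a)).1, (e.1 (x, a)).2 * b)}
      one_mem' := ⟨one_mem _, fun _ => (one_mul _).symm, fun _ _ _ => rfl⟩
      mul_mem' := fun {e f} he hf => ⟨mul_mem he.1 hf.1, fun y => by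
          change p (e.1 (f.1 y)) = e.2 * f.2 * p y
          rw [he.2.1, hf.2.1, mul_assoc], fun x a b => by
          change e.1 (f.1 _) = ((e.1 (f.1 _)).1, (e.1 (f.1 _)).2 * b)
          rw [hf.2.2, he.2.2]⟩
      inv_mem' := fun {e} he => ⟨inv_mem he.1, fun y => by
          change p (e.1⁻¹ y) = e.2⁻¹ * p y
          rw [eq_inv_mul_iff_mul_eq, ← he.2.1, Equiv.Perm.inv_def, Equiv.apply_symm_apply], fun x a b => by
          change e.1⁻¹ _ = ((e.1⁻¹ _).1, (e.1⁻¹ _).2 * b)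
          apply e.1.injective
          rw [he.2.2, Equiv.Perm.inv_def, Equiv.apply_symm_apply, Equiv.apply_symm_apply]⟩ }
  let π : E →* P24 := (MonoidHom.snd _ _).comp E.subtype
  let zp : ZMod 2 → Γ := fun a => if a = 0 then 1 else z
  have two : ∀ a : ZMod 2, a = 0 ∨ a = 1 := by decide
  have zp_add : ∀ a b, zp (a + b) = zp a * zp b := fun a b => by
    rcases two a with rfl | rfl <;> rcases two b with rfl | rfl <;> simp [zp, D.sq, CharTwo.add_self_eq_zero]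
  have zp_c : ∀ a g, zp a * g = g * zp a := fun a g => by
    rcases two a with rfl | rfl <;> simp [zp, mem_center_iff.1 D.cen g]
  have zp_σ : ∀ a, σ (zp a) = 1 := fun a => (D.ker _).2 (by rcases two a with rfl | rfl <;> simp [zp])
  let f : Wd → Equiv.Perm (ZMod 23 × Γ) := fun w => Function.Involutive.toPerm (fun y => (y.1, zp (w (some y.1)) * y.2))
    fun y => by simp only [← mul_assoc, ← zp_add, CharTwo.add_self_eq_zero]; simp [zp]
  have hf : ∀ w x a, f w (x, a) = (x, zp (w (some x)) * a) := fun _ _ _ => rfl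
  let θ : Wd → E := fun w => ⟨(f w, 1), one_mem _, fun y => by
    change t y.1 * σ (_ * y.2) = 1 * (t y.1 * σ y.2)
    rw [map_mul, zp_σ, one_mul, one_mul], fun x a b => by simp only [hf, mul_assoc]⟩
  have ext : ∀ e e' : E, π e = π e' → (∀ x, e.1.1 (x, 1) = e'.1.1 (x, 1)) → e = e' := fun e e' h1 h2 =>
    Subtype.ext (Prod.ext (Equiv.ext fun y => by
      rw [show y = (y.1, 1 * y.2) by simp, e.2.2.2, e'.2.2.2, h2]) h1)
  have rng : π.range = Spor.M23 := by
    refine le_antisymm (by rintro _ ⟨e, rfl⟩; exact e.2.1) fun s hs => ?_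
    choose y hy using fun x => p_surj _ (mul_mem hs (p_mem (x, 1)))
    have h1 : ∀ x a, p ((y x).1, (y x).2 * a) = s * p (x, a) := fun x a => by
      rw [p_mul, hy, mul_assoc, ← p_mul, one_mul]
    have h2 : Function.Injective fun u : ZMod 23 × Γ => ((y u.1).1, (y u.1).2 * u.2) := fun u v h => by
      have h3 : u.1 = v.1 := (p_inj u v (mul_left_cancel (a := s) (by rw [← h1, ← h1]; exact congrArg p h))).1
      have h4 : (y u.1).2 * u.2 = (y v.1).2 * v.2 := congrArg Prod.snd h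
      exact Prod.ext h3 (mul_left_cancel (h3 ▸ h4))
    exact ⟨⟨(Equiv.ofBijective _ (Finite.injective_iff_bijective.1 h2), s), hs, fun u => h1 u.1 u.2,
      fun x a b => Prod.ext rfl (mul_assoc _ _ _).symm⟩, rfl⟩
  refine ⟨E, inferInstance, inferInstance, π, θ, rng, fun w w' => ext _ _ (mul_one _).symm fun x => ?_,
    fun e => ⟨fun he => ?_, by rintro ⟨w, rfl⟩; rfl⟩, fun w => ⟨fun h x => ?_, fun h => ext _ _ rfl fun x => ?_⟩,
    fun e w => ?_, fun K h1 h2 => ?_⟩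
  · change f (w + w') _ = f w (f w' _)
    simp only [hf, Pi.add_apply, zp_add, mul_assoc]
  · refine ⟨fun o => o.elim 0 fun x => if (e.1.1 (x, 1)).2 = 1 then 0 else 1, ext _ _ he.symm fun x => ?_⟩
    obtain ⟨h1, h2⟩ := p_inj _ _ ((e.2.2.1 (x, 1)).trans (by rw [show e.1.2 = 1 from he, one_mul]))
    refine Prod.ext h1.symm ?_
    change zp (if (e.1.1 (x, 1)).2 = 1 then 0 else 1) * 1 = _
    rcases h2 with h2 | h2 <;> simp [h2, zp, D.ne]
  · have : zp (w (some x)) * 1 = 1 := congrArg (fun e : E => (e.1.1 (x, 1)).2) h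
    rcases two (w (some x)) with h | h
    · exact h
    · rw [h] at this; exact absurd this (by simpa [zp] using D.ne)
  · change f w _ = (x, 1)
    rw [hf, h]; simp [zp]
  · rw [eq_mul_inv_iff_mul_eq]
    refine ext _ _ ((one_mul _).trans (mul_one _).symm) fun x => ?_
    change f _ (e.1.1 (x, 1)) = e.1.1 (f w (x, 1))
    have h1 : π e (some x) = some (e.1.1 (x, 1)).1 := by rw [← p0, e.2.2.1, ← p0 (x, 1)]; rfl
    rw [hf, hf, zp_c (w (some x)), e.2.2.2, ← zp_c]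
    refine Prod.ext rfl ?_
    change zp (w ((π e)⁻¹ (some (e.1.1 (x, 1)).1))) * _ = _
    rw [← h1, Equiv.Perm.inv_def, Equiv.symm_apply_apply]
  · let A : Subgroup Γ :=
      { carrier := {a | ∃ k ∈ K, k.1.1 (0, 1) = (0, a)}
        one_mem' := ⟨1, one_mem _, rfl⟩
        mul_mem' := by
          rintro a b ⟨k, hk, e⟩ ⟨k', hk', e'⟩
          refine ⟨k * k', mul_mem hk hk', ?_⟩
          change k.1.1 (k'.1.1 _) = _
          rw [e', ← one_mul b, k.2.2.2, e, one_mul]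
        inv_mem' := by
          rintro a ⟨k, hk, e⟩
          refine ⟨k⁻¹, inv_mem hk, k.1.1.injective ?_⟩
          change k.1.1 (k.1.1⁻¹ _) = _
          rw [← one_mul a⁻¹, k.2.2.2, e, mul_inv_cancel, Equiv.Perm.inv_def, Equiv.apply_symm_apply] }
    have hA : ∀ g : Γ, ∃ a ∈ A, ∃ c ∈ center Γ, g = a * c := fun g => by
      obtain ⟨e, he⟩ : p (0, g) * (p (0, 1))⁻¹ ∈ π.range := rng ▸ mul_mem (p_mem _) (inv_mem (p_mem _))
      obtain ⟨k, hk, m, hm, rfl⟩ := mem_sup_of_normal_right.1 (h2 ▸ mem_top e)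
      rw [map_mul, show π m = 1 from hm, mul_one] at he
      obtain ⟨h3, h4⟩ := p_inj (0, g) _ (((k.2.2.1 (0, 1)).trans (by rw [show k.1.2 = _ from he]; simp)).symm)
      refine ⟨(k.1.1 (0, 1)).2, ⟨k, hk, Prod.ext h3.symm rfl⟩, ?_⟩
      exact h4.elim (fun h => ⟨1, one_mem _, by rwa [mul_one]⟩) fun h => ⟨z, D.cen, h⟩
    obtain ⟨k, hk, e⟩ : z ∈ A := by
      have := D.der
      rw [Schur.commutator_eq_of_mul_center hA] at this
      exact commutator_le_self A this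
    have h3 := k.2.2.1 (0, 1)
    rw [e, ← one_mul z, p_mul, (D.ker z).2 (Or.inr rfl), coe_one, mul_one, right_eq_mul] at h3
    obtain rfl : k = 1 := mem_bot.1 (h1 ▸ ⟨hk, h3⟩)
    exact D.ne (congrArg Prod.snd e).symm

theorem comp_mem {s : P24} (hs : s ∈ Spor.M23) {w : Wd} (hw : w ∈ golayCode) : w ∘ ⇑s⁻¹ ∈ golayCode := by
  have := (Golay.image_mem_CW hs.1 (s := support₂ w)).2 (by rwa [Golay.mem_CW, Golay.word_support₂])
  rwa [Golay.mem_CW, Golay.word_image, Golay.word_support₂] at this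

theorem perfect_M23 : commutator Spor.M23 = ⊤ := by
  have := simple_M23
  refine (IsSimpleGroup.eq_bot_or_eq_top_of_normal _ inferInstance).resolve_left fun h => ?_
  rw [commutator_eq_bot_iff_center_eq_top] at h
  have : IsMulCommutative Spor.M23 := ⟨⟨fun a b => (mem_center_iff.1 (h ▸ mem_top b) a)⟩⟩
  have := Group.is_simple_iff_prime_card.1 simple_M23
  rw [card_M23] at this
  exact absurd this (by norm_num)

/-- The image of a set of words closed under addition. -/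
def Ind.sub {E : Type} [Group E] {π : E →* P24} {θ : Wd → E} (h : Ind π θ) (C : AddSubgroup Wd) : Subgroup E where
  carrier := θ '' C
  one_mem' := ⟨0, C.zero_mem, (h.ker 0).2 fun _ => rfl⟩
  mul_mem' := by rintro _ _ ⟨a, ha, rfl⟩ ⟨b, hb, rfl⟩; exact ⟨a + b, C.add_mem ha hb, h.add a b⟩
  inv_mem' := by
    rintro _ ⟨a, ha, rfl⟩
    exact ⟨a, ha, eq_inv_of_mul_eq_one_left (by rw [← h.add, wd_add_self]; exact (h.ker 0).2 fun _ => rfl)⟩

theorem Ind.eq_iff {E : Type} [Group E] {π : E →* P24} {θ : Wd → E} (h : Ind π θ) (w w' : Wd) :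
    θ w = θ w' ↔ ∀ x, w (some x) = w' (some x) := by
  have sq : θ w' * θ w' = 1 := by rw [← h.add, wd_add_self]; exact (h.ker 0).2 fun _ => rfl
  have : θ w = θ w' ↔ θ (w + w') = 1 := by rw [h.add, mul_eq_one_iff_eq_inv, inv_eq_of_mul_eq_one_left sq]
  rw [this, h.ker]
  simp only [Pi.add_apply, CharTwo.add_eq_zero]

/-- No subgroup meets the kernel in the image of the Golay code and covers the quotient. -/
theorem Ind.no_sub {E : Type} [Group E] [Finite E] {π : E →* P24} {θ : Wd → E} (h : Ind π θ) {K : Subgroup E}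
    (h1 : K ⊓ π.ker = h.sub golayCode.toAddSubgroup) (h2 : K ⊔ π.ker = ⊤) : False := by
  classical
  have two : ∀ a : ZMod 2, a = 0 ∨ a = 1 := by decide
  have pm : ∀ g, π g ∈ Spor.M23 := fun g => h.rng ▸ ⟨g, rfl⟩
  have k1 : ∀ w, π (θ w) = 1 := fun w => (h.mem _).2 ⟨w, rfl⟩
  let C : AddSubgroup Wd := golayCode.toAddSubgroup ⊓ (Pi.evalAddMonoidHom (fun _ => ZMod 2) none).ker
  have hC : ∀ g, ∀ w ∈ C, w ∘ ⇑(π g)⁻¹ ∈ C := fun g w hw => ⟨comp_mem (pm g) hw.1, by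
    change w ((π g)⁻¹ none) = 0
    rw [show (π g)⁻¹ none = none from (inv_mem (pm g)).2]; exact hw.2⟩
  have : (h.sub C).Normal := ⟨by rintro _ ⟨w, hw, rfl⟩ g; exact ⟨_, hC g w hw, h.cj g w⟩⟩
  have hK : ∀ s ∈ Spor.M23, ∃ k ∈ K, π k = s := fun s hs => by
    obtain ⟨e, rfl⟩ : s ∈ π.range := h.rng ▸ hs
    obtain ⟨k, hk, m, hm, rfl⟩ := mem_sup_of_normal_right.1 (h2 ▸ mem_top e)
    exact ⟨k, hk, by rw [map_mul, show π m = 1 from hm, mul_one]⟩
  let S := (h.sub C).subgroupOf K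
  let ρ : K →* Spor.M23 := (π.comp K.subtype).codRestrict _ fun k => pm k
  have hS : S ≤ ρ.ker := by rintro k ⟨w, -, hw⟩; exact Subtype.ext ((congrArg π hw).symm.trans (k1 w))
  have hρ : Function.Surjective ρ := fun s => by
    obtain ⟨k, hk, e⟩ := hK s s.2
    exact ⟨⟨k, hk⟩, Subtype.ext e⟩
  have hb := Schur.hopf_eq_bot_of_trivial Agent.S2037.result (ξ := QuotientGroup.lift S ρ hS)
    (fun s => by obtain ⟨k, hk⟩ := hρ s; exact ⟨k, hk⟩) fun y hy => mem_center_iff.2 fun u => by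
      obtain ⟨y, rfl⟩ := QuotientGroup.mk_surjective y
      obtain ⟨u, rfl⟩ := QuotientGroup.mk_surjective u
      obtain ⟨w, hw, e⟩ : (y : E) ∈ h.sub golayCode.toAddSubgroup := h1 ▸ ⟨y.2, congrArg Subtype.val hy⟩
      rw [← QuotientGroup.mk_mul, ← QuotientGroup.mk_mul, QuotientGroup.eq]
      refine ⟨w + w ∘ ⇑(π (u : E)⁻¹)⁻¹, ⟨add_mem hw (comp_mem (pm _) hw), ?_⟩, ?_⟩
      · change w none + w ((π (u : E)⁻¹)⁻¹ none) = 0
        rw [show (π (u : E)⁻¹)⁻¹ none = none from (inv_mem (pm _)).2, CharTwo.add_self_eq_zero]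
      · have sq : θ w * θ w = 1 := by rw [← h.add, wd_add_self]; exact (h.ker 0).2 fun _ => rfl
        change _ = ((u : E) * y)⁻¹ * (y * u)
        rw [h.add, h.cj, ← e, mul_inv_rev, inv_eq_of_mul_eq_one_left sq]; group
  let L : Subgroup E := ((_root_.commutator (K ⧸ S)).comap (QuotientGroup.mk' S)).map K.subtype
  have L1 : ∀ m ∈ L, π m = 1 → m ∈ h.sub C := by
    rintro _ ⟨k, hk, rfl⟩ e
    exact (QuotientGroup.eq_one_iff (N := S) k).1 (mem_bot.1 (hb ▸ ⟨Subtype.ext e, hk⟩ : (k : K ⧸ S) ∈ ⊥))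
  have L2 : ∀ w ∈ C, θ w ∈ L := fun w hw => by
    have : θ w ∈ K := (h1 ▸ ⟨w, hw.1, rfl⟩ : θ w ∈ K ⊓ π.ker).1
    refine ⟨⟨_, this⟩, ?_, rfl⟩
    change ((⟨_, this⟩ : K) : K ⧸ S) ∈ _root_.commutator _
    rw [(QuotientGroup.eq_one_iff (N := S) _).2 ⟨w, hw, rfl⟩]; exact one_mem _
  have L3 : (π.comp L.subtype).range = Spor.M23 := by
    refine le_antisymm (by rintro _ ⟨k, rfl⟩; exact pm _) fun s hs => ?_
    have e : (_root_.commutator K).map ρ = ⊤ := by
      rw [map_commutator_eq, MonoidHom.range_eq_top.2 hρ]; exact perfect_M23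
    obtain ⟨k, hk, e⟩ : (⟨s, hs⟩ : Spor.M23) ∈ (_root_.commutator K).map ρ := e ▸ mem_top _
    refine ⟨⟨k, k, ?_, rfl⟩, congrArg Subtype.val e⟩
    have := mem_map_of_mem (QuotientGroup.mk' S) hk
    rw [map_commutator_eq] at this
    exact commutator_mono le_top le_top this
  have inj : ∀ w ∈ C, ∀ w' ∈ C, θ w = θ w' → w = w' := fun w hw w' hw' e => funext fun o => by
    cases o with
    | none => exact (show w none = 0 from hw.2).trans (show w' none = 0 from hw'.2).symm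
    | some x => exact (h.eq_iff _ _).1 e x
  let ψ : L → Wd := fun m => Function.invFunOn θ C m
  have hψ : ∀ m ∈ (π.comp L.subtype).ker, ψ m ∈ C ∧ θ (ψ m) = m := fun m hm =>
    Function.invFunOn_pos (L1 m m.2 hm)
  obtain ⟨H, h3, h4⟩ := code_split L3 ψ
    (fun m hm m' hm' => inj _ (hψ _ (mul_mem hm hm')).1 _ (add_mem (hψ _ hm).1 (hψ _ hm').1) (by
      rw [h.add, (hψ _ hm).2, (hψ _ hm').2, (hψ _ (mul_mem hm hm')).2]; rfl))
    (fun m hm m' hm' e => Subtype.ext (by rw [← (hψ _ hm).2, e, (hψ _ hm').2]))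
    (fun w => ⟨by rintro ⟨m, hm, rfl⟩; exact (hψ m hm).1, fun hw =>
      ⟨⟨θ w, L2 w hw⟩, k1 w, inj _ (hψ _ (k1 w)).1 _ hw (hψ ⟨θ w, L2 w hw⟩ (k1 w)).2⟩⟩)
    fun g m hm => inj _ (hψ _ (Normal.conj_mem inferInstance m hm g)).1 _ (hC g _ (hψ _ hm).1) (by
      rw [(hψ _ (Normal.conj_mem inferInstance m hm g)).2]
      exact ((h.cj g _).trans (by rw [(hψ _ hm).2]; rfl)).symm)
  refine h.ns (H.map L.subtype) (eq_bot_iff.2 ?_) (eq_top_iff.2 fun e _ => ?_)
  · rintro _ ⟨⟨k, hk, rfl⟩, e⟩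
    rw [mem_bot.1 (h3 ▸ ⟨hk, e⟩ : k ∈ ⊥)]; exact one_mem _
  · obtain ⟨k, hk⟩ : π e ∈ (π.comp L.subtype).range := L3 ▸ pm e
    obtain ⟨a, ha, b, hb, rfl⟩ := mem_sup_of_normal_right.1 (h4 ▸ mem_top k)
    rw [map_mul, show π.comp L.subtype b = 1 from hb, mul_one] at hk
    exact mem_sup_of_normal_right.2 ⟨a, ⟨a, ha, rfl⟩, (a : E)⁻¹ * e, by
      rw [MonoidHom.mem_ker, map_mul, map_inv, ← hk]; exact inv_mul_cancel _, mul_inv_cancel_left _ _⟩

/-- The non-split extension of the cocode module. -/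
theorem exists_coc : ∃ (E : Type) (_ : Group E) (_ : Finite E) (π : E →* P24) (θ : Wd → E), Coc π θ ∧
    ∀ H : Subgroup E, H ⊓ π.ker = ⊥ → H ⊔ π.ker ≠ ⊤ := by
  obtain ⟨E, _, _, π, θ, h⟩ := exists_ind
  have pm : ∀ g, π g ∈ Spor.M23 := fun g => h.rng ▸ ⟨g, rfl⟩
  let S := h.sub golayCode.toAddSubgroup
  have : S.Normal := ⟨by rintro _ ⟨w, hw, rfl⟩ g; exact ⟨_, comp_mem (pm g) hw, h.cj g w⟩⟩
  have hS : S ≤ π.ker := by rintro _ ⟨w, -, rfl⟩; exact (h.mem _).2 ⟨w, rfl⟩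
  refine ⟨E ⧸ S, inferInstance, inferInstance, QuotientGroup.lift S π hS, fun w => (θ w : E), ⟨?_, fun w w' => ?_,
    fun m => ?_, fun w => ?_, fun g w => ?_⟩, fun H h1 h2 => h.no_sub (K := H.comap (QuotientGroup.mk' S)) ?_ ?_⟩
  · refine le_antisymm ?_ fun s hs => ?_
    · rintro _ ⟨y, rfl⟩
      obtain ⟨y, rfl⟩ := QuotientGroup.mk_surjective y
      exact pm y
    · obtain ⟨y, rfl⟩ : s ∈ π.range := h.rng ▸ hs
      exact ⟨y, rfl⟩
  · rw [h.add]; rfl
  · obtain ⟨m, rfl⟩ := QuotientGroup.mk_surjective m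
    refine ⟨fun hm => ?_, fun ⟨w, hw⟩ => hw ▸ (h.mem _).2 ⟨w, rfl⟩⟩
    obtain ⟨w, rfl⟩ := (h.mem m).1 hm
    exact ⟨w, rfl⟩
  · have two : ∀ a b : ZMod 2, a = b ∨ a = b + 1 := by decide
    refine (QuotientGroup.eq_one_iff _).trans ⟨fun ⟨c, hc, e⟩ => ?_, ?_⟩
    · have e := (h.eq_iff _ _).1 e
      refine (two (c none) (w none)).imp (fun e' => ?_) fun e' => ?_
      · rwa [show w = c from funext fun o => by cases o; exacts [e'.symm, (e _).symm]]
      · rwa [show w + Pi.single none 1 = c from funext fun o => by cases o <;> simp [e, e']]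
    · rintro (hw | hw)
      exacts [⟨w, hw, rfl⟩, ⟨_, hw, (h.eq_iff _ _).2 fun x => by simp⟩]
  · obtain ⟨g, rfl⟩ := QuotientGroup.mk_surjective g
    exact congrArg QuotientGroup.mk (h.cj g w)
  · refine le_antisymm (fun k hk => ?_) (le_inf (fun k hk => ?_) hS)
    · exact (QuotientGroup.eq_one_iff (N := S) k).1 (mem_bot.1 (h1 ▸ ⟨hk.1, hk.2⟩ : (k : E ⧸ S) ∈ ⊥))
    · change (k : E ⧸ S) ∈ H
      rw [(QuotientGroup.eq_one_iff (N := S) k).2 hk]; exact one_mem _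
  · refine eq_top_iff.2 fun e _ => ?_
    obtain ⟨a, ha, b, hb, he⟩ := mem_sup_of_normal_right.1 (h2 ▸ mem_top (e : E ⧸ S))
    obtain ⟨a, rfl⟩ := QuotientGroup.mk_surjective a
    have := congrArg (QuotientGroup.lift S π hS) he
    rw [map_mul, show QuotientGroup.lift S π hS b = 1 from hb, mul_one] at this
    exact mem_sup_of_normal_right.2 ⟨a, ha, a⁻¹ * e, by
      rw [MonoidHom.mem_ker, map_mul, map_inv, show π a = π e from this, inv_mul_cancel], mul_inv_cancel_left _ _⟩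

end Cfsg.Lib.Ext2
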