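import Cfsg.Agent.Lib.Ext2.M23D
import Cfsg.Agent.Lib.Mathieu.Classes

/-!
# Extensions of `M23` by the Golay code and cocode modules

`code_split`: extensions by the code module split; tables for the cocode module.
-/

set_option autoImplicit false

namespace Cfsg.Lib.Ext2

open Cfsg.Lib.Calc Cfsg.Lib.F2 Cfsg.Lib.Mathieu Finset
open Cfsg.Lib.Golay (G gIdx word isCW cw)

/-- Binary words on the 24 points. -/
abbrev Wd : Type := GolayPt → ZMod 2

/-- The word of a mask. -/
def wm (m : ℕ) : Wd := fun x => z2 (m.testBit (gIdx x))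

theorem wm_eq (m : ℕ) : wm m = word (G.toF m) := by
  ext x; simp only [wm, word, z2, Golay.Ix.mem_toF]; rfl

theorem wm_pt (m : ℕ) {i : ℕ} (hi : i < 24) : wm m (G.pt i) = z2 (m.testBit i) :=
  congrArg (fun j => z2 (m.testBit j)) (G.idx_pt i hi)

theorem exists_wm (w : Wd) : ∃ m < 2 ^ 24, wm m = w := by
  obtain ⟨m, hm, h⟩ := G.exists_toF (support₂ w)
  exact ⟨m, hm, by rw [wm_eq, h, Golay.word_support₂]⟩

theorem wm_xor (a b : ℕ) : wm (a ^^^ b) = wm a + wm b := by ext x; simp [wm, z2_xor]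

theorem wm_mem {m : ℕ} (hm : m < 2 ^ 24) : wm m ∈ golayCode ↔ isCW m = true := by
  rw [wm_eq, ← Golay.mem_CW, Golay.toF_mem_CW hm]

theorem wm_none : wm (2 ^ 23) = Pi.single none 1 := by
  rw [wm_eq, G.toF_two_pow (by decide), Golay.G_pt_23, Golay.word_singleton]

theorem exists_cw {w : Wd} (hw : w ∈ golayCode) : ∃ i < 4096, wm (cw i) = w := by
  obtain ⟨m, hm, rfl⟩ := exists_wm w
  exact ⟨_, Golay.land_4095_lt m, congrArg wm (Golay.eq_cw_of_isCW ((wm_mem hm).1 hw)).symm⟩

theorem sum_pt (f : GolayPt → ZMod 2) : ∑ x, f x = ∑ i ∈ range 24, f (G.pt i) := by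
  rw [sum_range, ← Equiv.sum_comp G.equiv.symm]; rfl

/-- A basis of the code words without the point `none`. -/
def Bp : ℕ := 0x24f8017684017b42003da1001ed0802b90417130215c60116e300813e00549f002
/-- The transposed table. -/
def Tp : ℕ := 0xc77da3da3dbb31b31b3dc752e4fc75800800800800800800800800800800e3a

theorem tabs_ok : band (band (allLt 11 fun b => band (band (isCW (get 24 Bp b)) (Nat.beq (get 11 Tp (b + 1)) (2 ^ b)))
      (allLt 24 fun p => bit (get 24 Bp b) p == bit (get 11 Tp p) b)) (Nat.beq (get 11 Tp 23) 0))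
    (allBig 4096 fun i => band (forceB (cw i) fun m => band (bor (bit m 23) (Nat.beq m (appA 24 Bp (m / 2) 11)))
      (Nat.beq (appA 11 Tp m 24) 0)) (bor (blt 0 (appA 11 Tp (i * 4096) 24)) (Nat.beq (i % 2048) 0))) = true := by
  decide +kernel

theorem Bp_Tp {b p : ℕ} (hb : b < 11) (hp : p < 24) : (get 24 Bp b).testBit p = (get 11 Tp p).testBit b := by
  have := of_allLt (band_eq_true.1 (of_allLt (band_eq_true.1 (band_eq_true.1 tabs_ok).1).1 hb)).2 hp
  rwa [beq_iff_eq, bit_eq, bit_eq] at this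

theorem Tp_succ {b : ℕ} (hb : b < 11) : get 11 Tp (b + 1) = 2 ^ b :=
  beq_iff.1 (band_eq_true.1 (band_eq_true.1 (of_allLt (band_eq_true.1 (band_eq_true.1 tabs_ok).1).1 hb)).1).2

theorem Bp_mem {b : ℕ} (hb : b < 11) : wm (get 24 Bp b) ∈ golayCode := (wm_mem (get_lt _ _ _)).2
  (band_eq_true.1 (band_eq_true.1 (of_allLt (band_eq_true.1 (band_eq_true.1 tabs_ok).1).1 hb)).1).1

theorem Tp_23 : get 11 Tp 23 = 0 := beq_iff.1 (band_eq_true.1 (band_eq_true.1 tabs_ok).1).2

theorem cw_tabs {i : ℕ} (hi : i < 4096) : ((cw i).testBit 23 = true ∨ cw i = appA 24 Bp (cw i / 2) 11) ∧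
    appA 11 Tp (cw i) 24 = 0 ∧ (appA 11 Tp (i * 4096) 24 = 0 → i % 2048 = 0) := by
  have := allBig_iff.1 (band_eq_true.1 tabs_ok).2 i hi
  simp only [forceB_eq, band_eq_true, bor_eq_true, beq_iff, blt_iff, bit_eq] at this
  exact ⟨this.1.1, this.1.2, fun h => this.2.resolve_left (by omega)⟩

/-- A code word without the point `none` is determined by eleven coordinates. -/
theorem code_expand {w : Wd} (hw : w ∈ golayCode) (h0 : w none = 0) {p : ℕ} (hp : p < 24) :
    w (G.pt p) = ∑ c ∈ range 11, z2 ((get 11 Tp p).testBit c) * w (G.pt (c + 1)) := by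
  obtain ⟨i, hi, rfl⟩ := exists_cw hw
  rcases (cw_tabs hi).1 with h | h
  · rw [← Golay.G_pt_23, wm_pt _ (by norm_num), h] at h0; exact absurd h0 (by decide)
  · rw [wm_pt _ hp, h, z2_appA, ← h]
    refine sum_congr rfl fun c hc => ?_
    have hc := mem_range.1 hc
    rw [wm_pt _ (by omega), Bp_Tp hc hp, Nat.testBit_succ, mul_comm]

/-- The inner product with a basic code word. -/
def ip (b : ℕ) (w : Wd) : ZMod 2 := ∑ x, wm (get 24 Bp b) x * w x

theorem ip_add (b : ℕ) (w w' : Wd) : ip b (w + w') = ip b w + ip b w' := by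
  simp only [ip, Pi.add_apply, mul_add, sum_add_distrib]

theorem ip_wm {b : ℕ} (hb : b < 11) (m : ℕ) : ip b (wm m) = z2 ((appA 11 Tp m 24).testBit b) := by
  rw [ip, sum_pt, z2_appA]
  refine sum_congr rfl fun p hp => ?_
  have hp := mem_range.1 hp
  rw [wm_pt _ hp, wm_pt _ hp, Bp_Tp hb hp, mul_comm]

theorem ip_eq_zero_iff (w : Wd) : (∀ b < 11, ip b w = 0) ↔ w ∈ golayCode ∨ w + Pi.single none 1 ∈ golayCode := by
  have h1 : ∀ w ∈ golayCode, ∀ b < 11, ip b w = 0 := fun w hw b hb => by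
    obtain ⟨i, hi, rfl⟩ := exists_cw hw
    rw [ip_wm hb, (cw_tabs hi).2.1]; simp [z2_false]
  constructor
  · intro h
    obtain ⟨m, hm, rfl⟩ := exists_wm w
    obtain ⟨-, h2, h3, h4⟩ := Golay.cw_spec (Golay.land_4095_lt m)
    have h5 := (wm_mem h2).2 h4
    generalize cw (Nat.land m 4095) = c at h2 h3 h4 h5
    have h6 : (m ^^^ c) % 2 ^ 12 = 0 := by
      rw [← Nat.and_two_pow_sub_one_eq_mod, Nat.and_xor_distrib_right]
      exact Nat.xor_eq_zero_iff.2 h3.symm
    have h7 : m ^^^ c < 2 ^ 24 := Nat.xor_lt_two_pow hm h2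
    have h8 : m ^^^ c = (m ^^^ c) / 4096 * 4096 := by omega
    have h9 := (cw_tabs (i := (m ^^^ c) / 4096) (by omega)).2.2 (by
      rw [← h8]
      refine Nat.eq_of_testBit_eq fun b => ?_
      by_cases hb : b < 11
      · apply z2_inj
        rw [← ip_wm hb, wm_xor, ip_add, h b hb, h1 _ h5 b hb]; simp [z2_false]
      · rw [Nat.testBit_lt_two_pow ((appA_lt _ _ _ _).trans_le (Nat.pow_le_pow_right two_pos (by omega)))]; simp)
    have h10 : m ^^^ c = 0 ∨ m ^^^ c = 2 ^ 23 := by omega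
    rcases h10 with h10 | h10
    · left; rwa [Nat.xor_eq_zero_iff.1 h10]
    · right; rwa [← wm_none, ← h10, ← wm_xor, ← Nat.xor_assoc, Nat.xor_self, Nat.zero_xor]
  · rintro (h | h) b hb
    · exact h1 _ h b hb
    · have := h1 _ h b hb
      rw [ip_add, ← wm_none, ip_wm hb] at this
      have e : appA 11 Tp (2 ^ 23) 24 = 0 := by decide +kernel
      rwa [e, Nat.zero_testBit, z2_false, add_zero] at this

theorem exists_ip (f : ℕ → ZMod 2) : ∃ w : Wd, ∀ b < 11, ip b w = f b := by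
  refine ⟨∑ c ∈ range 11, f c • wm (2 ^ (c + 1)), fun b hb => ?_⟩
  have e : allLt 11 (fun c => Nat.beq (appA 11 Tp (2 ^ (c + 1)) 24) (2 ^ c)) = true := by decide +kernel
  have : ip b (∑ c ∈ range 11, f c • wm (2 ^ (c + 1))) = ∑ c ∈ range 11, f c * ip b (wm (2 ^ (c + 1))) := by
    simp only [ip, Finset.sum_apply, Pi.smul_apply, smul_eq_mul, mul_sum]
    exact sum_comm.trans (sum_congr rfl fun _ _ => sum_congr rfl fun _ _ => by ring)
  rw [this, sum_eq_single b]
  · rw [ip_wm hb, beq_iff.1 (of_allLt e hb)]; simp [z2_true]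
  · intro c hc h; rw [ip_wm hb, beq_iff.1 (of_allLt e (mem_range.1 hc)), Nat.testBit_two_pow_of_ne h]; simp [z2_false]
  · intro h; exact absurd (mem_range.2 hb) h

/-- The table of a word. -/
noncomputable def wc (l : List ℕ) : ℕ :=
  List.rec (motive := fun _ => ℕ) (idc 24 5) (fun a _ ih => forceN ih (Calc.mul 24 5 (nth (idc 24 5) us a))) l

theorem data_ok : band (Calc.allL (idc 24 5 :: us ++ gs) fun c => band (okM c) (Nat.beq (get 5 c 23) 23))
    (allLt 37 fun r => Nat.beq (Calc.mul 24 5 (nth (idc 24 5) gs (nth 0 ks r)) (wc (nthL l1 r)))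
      (Calc.mul 24 5 (wc (nthL l2 r)) (nth (idc 24 5) gs (nth 0 ks r)))) = true := by decide +kernel

variable {E : Type*} [Group E]

/-- Lifts of the letters. -/
structure Lifts (π : E →* P24) (x g : ℕ → E) : Prop where
  hx : ∀ a, Rp (π (x a)) (nth (idc 24 5) us a)
  hg : ∀ k, Rp (π (g k)) (nth (idc 24 5) gs k)
  g0 : g 0 = 1

theorem exists_lifts {π : E →* P24} (hr : π.range = Spor.M23) : ∃ x g, Lifts π x g := by
  have h : ∀ c ∈ idc 24 5 :: us ++ gs, ∃ y, Rp (π y) c := fun c hc => by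
    obtain ⟨h1, h2⟩ := band_eq_true.1 (Calc.allL_iff.1 (band_eq_true.1 data_ok).1 c hc)
    have h3 := mk_rep h1
    have : (mk c : P24) ∈ π.range := by
      rw [hr]; exact ⟨(mk c).2, (h3.mem_stab_pt (i := 23) (by norm_num)).2 (beq_iff.1 h2)⟩
    obtain ⟨y, hy⟩ := this
    exact ⟨y, hy ▸ R_iff.1 h3⟩
  choose x hx using fun a => h (nth (idc 24 5) us a) (by rcases nth_mem (idc 24 5) us a with h | h <;> simp [h])
  choose g hg using fun a => h (nth (idc 24 5) gs a) (by rcases nth_mem (idc 24 5) gs a with h | h <;> simp [h])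
  refine ⟨x, fun k => if k = 0 then 1 else g k, hx, fun k => ?_, rfl⟩
  split_ifs with hk
  · rw [hk, map_one, show nth (idc 24 5) gs 0 = idc 24 5 by decide +kernel]; exact Rep.one (by norm_num)
  · exact hg k

theorem Lifts.tau {π : E →* P24} {x g : ℕ → E} (L : Lifts π x g) {r : ℕ} (hr : r < 37) : cB.tau x g r ∈ π.ker := by
  have h1 : ∀ l, Rp (π (wv x l)) (wc l) := fun l => by
    induction l with
    | nil => rw [wv_nil, map_one]; exact Rep.one (by norm_num)
    | cons a l ih => 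
      rw [wv_cons, map_mul, show wc (a :: l) = Calc.mul 24 5 (nth (idc 24 5) us a) (wc l) from forceN_eq _ _]
      exact (L.hx a).mul ih
  have h3 := (h1 (nthL l2 r)).mul (L.hg (nth 0 ks r))
  rw [← beq_iff.1 (of_allLt (band_eq_true.1 data_ok).2 hr)] at h3
  have h2 := ((L.hg (nth 0 ks r)).mul (h1 (nthL l1 r))).eq_of_faithful faithful_P24 h3
  change π (g (nth 0 ks r) * wv x (nthL l1 r) * (g (nth 0 ks r))⁻¹ * (wv x (nthL l2 r))⁻¹) = 1
  simp only [map_mul, map_inv]
  rw [h2]; group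

theorem index_ker {π : E →* P24} (hr : π.range = Spor.M23) : π.ker.index = 2 ^ 7 * 79695 := by
  rw [Subgroup.index_ker, hr, card_M23]; norm_num

/-- Extensions by the code module split. -/
theorem code_split [Finite E] {π : E →* P24} (hr : π.range = Spor.M23) (ψ : E → Wd)
    (add : ∀ m ∈ π.ker, ∀ m' ∈ π.ker, ψ (m * m') = ψ m + ψ m') (inj : Set.InjOn ψ π.ker)
    (rng : ∀ w, (∃ m ∈ π.ker, ψ m = w) ↔ w ∈ golayCode ∧ w none = 0)
    (cj : ∀ g, ∀ m ∈ π.ker, ψ (g * m * g⁻¹) = ψ m ∘ ⇑(π g)⁻¹) : ∃ H : Subgroup E, H ⊓ π.ker = ⊥ ∧ H ⊔ π.ker = ⊤ := by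
  obtain ⟨x, g, L⟩ := exists_lifts hr
  have hc := fun m hm => (rng (ψ m)).1 ⟨m, hm, rfl⟩
  have hM : Mod 11 π.ker fun b m => ψ m (G.pt (b + 1)) :=
    { add := fun b _ m hm m' hm' => by rw [add m hm m' hm']; rfl
      ext := fun m hm m' hm' h => inj hm hm' (funext fun y => by
        obtain ⟨p, hp, rfl⟩ := surj_pt y
        rw [code_expand (hc m hm).1 (hc m hm).2 hp, code_expand (hc m' hm').1 (hc m' hm').2 hp]
        exact sum_congr rfl fun c hc => by rw [h c (mem_range.1 hc)])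
      surj := fun f => by
        obtain ⟨m, hm, h⟩ := (rng (∑ c ∈ range 11, f c • wm (get 24 Bp c))).2 ⟨Submodule.sum_mem _ fun c hc =>
          Submodule.smul_mem _ _ (Bp_mem (mem_range.1 hc)), by
            rw [Finset.sum_apply]
            refine sum_eq_zero fun c hc => ?_
            rw [Pi.smul_apply, ← Golay.G_pt_23, wm_pt _ (by norm_num), Bp_Tp (mem_range.1 hc) (by norm_num), Tp_23]
            simp [z2_false]⟩
        refine ⟨m, hm, fun b hb => ?_⟩
        rw [h, Finset.sum_apply, sum_eq_single b]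
        · rw [Pi.smul_apply, wm_pt _ (by omega), Bp_Tp hb (by omega), Tp_succ hb]; simp [z2_true]
        · intro c hc h
          rw [Pi.smul_apply, wm_pt _ (by omega), Bp_Tp (mem_range.1 hc) (by omega), Tp_succ hb,
            Nat.testBit_two_pow_of_ne h.symm]
          simp [z2_false]
        · intro h; exact absurd (mem_range.2 hb) h }
  have act : ∀ y c M, Rp (π y) c → allLt 11 (fun b => anyLt 24 fun p =>
      band (Nat.beq (get 5 c p) (b + 1)) (Nat.beq (get 11 M b) (get 11 Tp p))) = true →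
      Act 11 π.ker (fun b m => ψ m (G.pt (b + 1))) y M := fun y c M hy h m hm b hb => by
    obtain ⟨p, hp, h1⟩ := anyLt_iff.1 (of_allLt h hb)
    obtain ⟨h2, h3⟩ := band_eq_true.1 h1
    have h4 := hy.apply hp
    rw [beq_iff.1 h2] at h4
    change ψ _ _ = _
    rw [cj y m hm, Function.comp_apply, ← h4, Equiv.Perm.inv_def, Equiv.symm_apply_apply, code_expand (hc m hm).1 (hc m hm).2 hp,
      beq_iff.1 h3]
    rfl
  have e : band (allLt 7 fun a => allLt 11 fun b => anyLt 24 fun p => band (Nat.beq (get 5 (nth (idc 24 5) us a) p) (b + 1))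
      (Nat.beq (get 11 (nth 0 cA.ms a) b) (get 11 Tp p))) (allLt 3 fun a => allLt 11 fun b => anyLt 24 fun p =>
      band (Nat.beq (get 5 (nth (idc 24 5) gs a) p) (b + 1)) (Nat.beq (get 11 (nth 0 cA.gs a) b) (get 11 Tp p))) = true := by
    decide +kernel
  refine Cert.split cA_ok hM L.g0 (fun a ha => act _ _ _ (L.hx a) (of_allLt (band_eq_true.1 e).1 ha))
    (fun a ha => act _ _ _ (L.hg a) (of_allLt (band_eq_true.1 e).2 ha)) (fun r hr => L.tau hr) (by decide) (index_ker hr) ?_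
  exact sum_eq_zero fun r _ => by rw [show get cA.d cA.lam r = 0 by simp [get_eq, cA], phi_zero]

end Cfsg.Lib.Ext2
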