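import Cfsg.Agent.Lib.F2.Basic

/-!
# Collection in an extension of a 2-group by a module over the field with two elements

`N` is an elementary abelian normal subgroup with coordinates `ψ 0, …, ψ (d-1)`.  The letters `X a` (`a < n`) lift a
power-conjugate generating sequence, the letters `X (n + r)` lie in `N`.  `run` collects a word and records the
coordinates of the resulting element of `N` as linear forms in the coordinates of the letters `X (n + r)`.
-/

set_option autoImplicit false
set_option linter.unusedSectionVars false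

namespace Cfsg.Lib.Ext2

open Cfsg.Lib.Calc Cfsg.Lib.F2 Finset

variable {E : Type*} [Group E]

/-- The linear combination of the coordinates given by the bits of `v`. -/
def phi (d : ℕ) (ψ : ℕ → E → ZMod 2) (v : ℕ) (m : E) : ZMod 2 := ∑ b ∈ range d, z2 (v.testBit b) * ψ b m

/-- The coordinates identify `N` with the space of dimension `d`. -/
structure Mod (d : ℕ) (N : Subgroup E) (ψ : ℕ → E → ZMod 2) : Prop where
  add : ∀ b < d, ∀ m ∈ N, ∀ m' ∈ N, ψ b (m * m') = ψ b m + ψ b m'
  ext : ∀ m ∈ N, ∀ m' ∈ N, (∀ b < d, ψ b m = ψ b m') → m = m'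
  surj : ∀ f : ℕ → ZMod 2, ∃ m ∈ N, ∀ b < d, ψ b m = f b

/-- The matrix of the conjugation by `g`. -/
def Act (d : ℕ) (N : Subgroup E) (ψ : ℕ → E → ZMod 2) (g : E) (M : ℕ) : Prop :=
  ∀ m ∈ N, ∀ b < d, ψ b (g * m * g⁻¹) = phi d ψ (get d M b) m

variable {d : ℕ} {N : Subgroup E} {ψ : ℕ → E → ZMod 2}

theorem phi_xor (v v' : ℕ) (m : E) : phi d ψ (v ^^^ v') m = phi d ψ v m + phi d ψ v' m := by
  simp only [phi, Nat.testBit_xor, z2_xor, add_mul, sum_add_distrib]

theorem phi_zero (m : E) : phi d ψ 0 m = 0 := by simp [phi, z2_false]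

theorem phi_two_pow {b : ℕ} (hb : b < d) (m : E) : phi d ψ (2 ^ b) m = ψ b m := by
  rw [phi, sum_eq_single b]
  · simp [z2_true]
  · intro c _ hc; rw [Nat.testBit_two_pow_of_ne hc.symm, z2_false, zero_mul]
  · intro h; exact absurd (mem_range.2 hb) h

theorem phi_app (M v : ℕ) (m : E) :
    phi d ψ (app d M v) m = ∑ c ∈ range d, z2 (v.testBit c) * phi d ψ (get d M c) m := by
  simp only [phi, z2_app, sum_mul, mul_sum, mul_assoc]
  exact sum_comm

theorem Mod.one (h : Mod d N ψ) {b : ℕ} (hb : b < d) : ψ b 1 = 0 := by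
  have := h.add b hb 1 N.one_mem 1 N.one_mem
  rw [mul_one] at this
  exact left_eq_add.1 this

theorem Mod.phi_one (h : Mod d N ψ) (v : ℕ) : phi d ψ v 1 = 0 :=
  sum_eq_zero fun b hb => by rw [h.one (mem_range.1 hb), mul_zero]

theorem Mod.comm (h : Mod d N ψ) {m m' : E} (hm : m ∈ N) (hm' : m' ∈ N) : m * m' = m' * m :=
  h.ext _ (N.mul_mem hm hm') _ (N.mul_mem hm' hm) fun b hb => by
    rw [h.add b hb _ hm _ hm', h.add b hb _ hm' _ hm, add_comm]

theorem Mod.sq (h : Mod d N ψ) {m : E} (hm : m ∈ N) : m * m = 1 :=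
  h.ext _ (N.mul_mem hm hm) _ N.one_mem fun b hb => by
    rw [h.add b hb _ hm _ hm, h.one hb, CharTwo.add_self_eq_zero]

theorem Act.mul [N.Normal] {g h : E} {M M' : ℕ} (hg : Act d N ψ g M) (hh : Act d N ψ h M') :
    Act d N ψ (g * h) (mmul d M' M) := by
  intro m hm b hb
  have := hg _ (Subgroup.Normal.conj_mem ‹_› m hm h) b hb
  rw [show g * h * m * (g * h)⁻¹ = g * (h * m * h⁻¹) * g⁻¹ by group, this, mmul, get_papp hb, phi_app]
  exact sum_congr rfl fun c hc => by rw [hh m hm c (mem_range.1 hc)]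

theorem Act.one : Act d N ψ 1 (idM d) := by
  intro m _ b hb
  rw [get_idM hb, phi_two_pow hb]; simp

theorem Act.left [N.Normal] (h : Mod d N ψ) {ν g : E} {M : ℕ} (hν : ν ∈ N) (hg : Act d N ψ g M) :
    Act d N ψ (ν * g) M := by
  intro m hm b hb
  have h1 := Subgroup.Normal.conj_mem ‹_› m hm g
  rw [show ν * g * m * (ν * g)⁻¹ = ν * (g * m * g⁻¹) * ν⁻¹ by group, h.comm hν h1, mul_inv_cancel_right, hg m hm b hb]

theorem get_get {w k b : ℕ} (hb : b < k) (c i : ℕ) : get w (get (w * k) c i) b = get w c (k * i + b) := by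
  refine Nat.eq_of_testBit_eq fun j => ?_
  rw [testBit_get, testBit_get, testBit_get]
  by_cases hj : j < w
  · have : w * b + j < w * k := by nlinarith
    simp only [hj, this, decide_true, Bool.true_and]
    congr 1; ring
  · simp [hj]

theorem Act.trunc {g : E} {M : ℕ} (hg : Act d N ψ g M) : Act d N ψ g (get (d * d) M 0) := by
  intro m hm b hb
  rw [get_get hb, hg m hm b hb]; simp

/-- Two elements in the same coset of `N` have the same matrix. -/
theorem Act.eq (h : Mod d N ψ) {g g' : E} {M M' : ℕ} (hg : Act d N ψ g M) (hg' : Act d N ψ g' M')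
    (e : g⁻¹ * g' ∈ N) (h1 : M < 2 ^ (d * d)) (h2 : M' < 2 ^ (d * d)) : M = M' := by
  refine eq_of_get_eq h1 h2 fun b hb => Nat.eq_of_testBit_eq fun c => ?_
  by_cases hc : c < d
  · obtain ⟨m, hm, hf⟩ := h.surj fun i => if i = c then 1 else 0
    have key : ∀ v, phi d ψ v m = z2 (v.testBit c) := fun v => by
      rw [phi, sum_eq_single c]
      · rw [hf c hc]; simp
      · intro i hi hic; rw [hf i (mem_range.1 hi)]; simp [hic]
      · intro h; exact absurd (mem_range.2 hc) h
    apply z2_inj
    rw [← key, ← key, ← hg m hm b hb, ← hg' m hm b hb]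
    congr 1
    rw [show g' * m * g'⁻¹ = g * ((g⁻¹ * g') * m * (g⁻¹ * g')⁻¹) * g⁻¹ by group, h.comm e hm, mul_inv_cancel_right]
  · rw [testBit_get, testBit_get]; simp [hc]

/-! ### Words and normal forms -/

/-- The value of a word. -/
def wv (X : ℕ → E) (l : List ℕ) : E := (l.map X).prod

theorem wv_nil (X : ℕ → E) : wv X [] = 1 := rfl
theorem wv_cons (X : ℕ → E) (a : ℕ) (l : List ℕ) : wv X (a :: l) = X a * wv X l := by simp [wv]

/-- Concatenation. -/
noncomputable def cat (l st : List ℕ) : List ℕ := List.rec (motive := fun _ => List ℕ) st (fun a _ ih => a :: ih) l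

theorem wv_cat (X : ℕ → E) (l st : List ℕ) : wv X (cat l st) = wv X l * wv X st := by
  induction l with
  | nil => simp [cat, wv]
  | cons a l ih => change wv X (a :: cat l st) = _; rw [wv_cons, wv_cons, ih, mul_assoc]

theorem wv_congr {X Y : ℕ → E} {l : List ℕ} (h : ∀ a ∈ l, X a = Y a) : wv X l = wv Y l := by
  rw [wv, wv, List.map_congr_left h]

theorem map_wv {E' : Type*} [Group E'] (f : E →* E') (X : ℕ → E) (l : List ℕ) :
    f (wv X l) = wv (fun a => f (X a)) l := by
  rw [wv, wv, map_list_prod, List.map_map]; rfl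

/-- Entry `i` of a list of words. -/
noncomputable def nthL (L : List (List ℕ)) (i : ℕ) : List ℕ :=
  List.rec (motive := fun _ => ℕ → List ℕ) (fun _ => [])
    (fun b _ ih i => Nat.rec (motive := fun _ => List ℕ) b (fun j _ => ih j) i) L i

/-- The normal form with exponents the bits of `e`. -/
def sec (X : ℕ → E) (e : ℕ) : ℕ → E
  | 0 => 1
  | i + 1 => sec X e i * if e.testBit i then X i else 1

theorem sec_zero (X : ℕ → E) (m : ℕ) : sec X 0 m = 1 := by
  induction m with
  | zero => rfl
  | succ m ih => simp [sec, ih]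

theorem sec_of_lt (X : ℕ → E) {e a m : ℕ} (he : e < 2 ^ a) (hm : a ≤ m) : sec X e m = sec X e a := by
  induction m, hm using Nat.le_induction with
  | base => rfl
  | succ m hm ih =>
    rw [sec, ih, Nat.testBit_lt_two_pow (he.trans_le (Nat.pow_le_pow_right two_pos hm))]; simp

theorem sec_add (X : ℕ → E) {e a n : ℕ} (he : e < 2 ^ a) (ha : a < n) : sec X (e + 2 ^ a) n = sec X e n * X a := by
  have h1 : ∀ m ≤ a, sec X (e + 2 ^ a) m = sec X e m := fun m hm => by
    induction m with
    | zero => rfl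
    | succ m ih => rw [sec, sec, ih (by omega), add_comm, Nat.testBit_two_pow_add_gt (by omega)]
  rw [sec_of_lt X (a := a + 1) (by rw [pow_succ]; omega) ha, sec_of_lt X he ha.le, sec, h1 a le_rfl, add_comm,
    Nat.testBit_two_pow_add_eq, Nat.testBit_lt_two_pow he]
  simp

theorem sec_mem {X : ℕ → E} {K : Subgroup E} {n : ℕ} (h : ∀ a < n, X a ∈ K) (e : ℕ) : sec X e n ∈ K := by
  induction n with
  | zero => exact K.one_mem
  | succ n ih =>
    refine K.mul_mem (ih fun a ha => h a (by omega)) ?_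
    split_ifs
    exacts [h n (by omega), K.one_mem]

/-- The matrix of `g * sec X e m`. -/
noncomputable def mat (d : ℕ) (ms : List ℕ) (M e m : ℕ) : ℕ :=
  Nat.rec (motive := fun _ => ℕ) M (fun i ih => cnd (bit e i) (forceN ih (mmul d (nth (nat_lit 0) ms i))) ih) m

theorem Act.mat [N.Normal] {X : ℕ → E} {ms : List ℕ} {g : E} {M n : ℕ} (hg : Act d N ψ g M)
    (h : ∀ a < n, Act d N ψ (X a) (nth 0 ms a)) (e : ℕ) : Act d N ψ (g * sec X e n) (mat d ms M e n) := by
  induction n with
  | zero => rw [sec, mul_one]; exact hg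
  | succ n ih =>
    have := ih fun a ha => h a (by omega)
    change Act d N ψ _ (cnd (bit e n) (forceN (Ext2.mat d ms M e n) (mmul d (nth 0 ms n))) (Ext2.mat d ms M e n))
    rw [sec, bit_eq, forceN_eq]
    cases e.testBit n
    · simpa using this
    · rw [if_pos rfl, ← mul_assoc]; exact this.mul (h n (by omega))

/-! ### The collector -/

/-- The number of the rule for `X j * X a` is `tri j + a`. -/
def tri (j : ℕ) : ℕ := Nat.div (Nat.mul j (Nat.succ j)) (nat_lit 2)

/-- Collect the word `st` onto the normal form `e`. -/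
noncomputable def run (n dd T o : ℕ) (rules : List (List ℕ)) (f : ℕ) : List ℕ → ℕ → ℕ → ℕ :=
  Nat.rec (motive := fun _ => List ℕ → ℕ → ℕ → ℕ) (fun _ _ _ => nat_lit 0) (fun _ ih st e acc =>
    List.rec (motive := fun _ => ℕ) (Nat.succ (Nat.add (Nat.shiftLeft acc n) e)) (fun a st _ => forceN a fun a =>
      cnd (Nat.ble n a)
        (forceN (Nat.xor acc (Nat.shiftLeft (get dd T (Nat.add o e)) (Nat.mul dd (Nat.sub a n)))) (ih st e))
        (cnd (blt e (Nat.shiftLeft (nat_lit 1) a))
          (forceN (Nat.add e (Nat.shiftLeft (nat_lit 1) a)) fun e => ih st e acc)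
          (forceN (Nat.log2 e) fun j => forceN (Nat.add (tri j) a) fun r =>
            forceN (Nat.sub e (Nat.shiftLeft (nat_lit 1) j)) fun e =>
              ih (Nat.add n r :: cat (nthL rules r) st) e acc))) st) f

/-- The coordinates of `m` are the linear forms `acc` in the coordinates of the letters `τ r`. -/
def Val (d : ℕ) (N : Subgroup E) (ψ : ℕ → E → ZMod 2) (R : ℕ) (τ : ℕ → E) (acc : ℕ) (m : E) : Prop :=
  m ∈ N ∧ ∀ b < d, ψ b m = ∑ r ∈ range R, phi d ψ (get d acc (d * r + b)) (τ r)

theorem get_shift {b : ℕ} (hb : b < d) {M : ℕ} (hM : M < 2 ^ (d * d)) (r r' : ℕ) :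
    get d (M <<< (d * d * r)) (d * r' + b) = if r' = r then get d M b else 0 := by
  refine Nat.eq_of_testBit_eq fun j => ?_
  rw [testBit_get, Nat.testBit_shiftLeft]
  by_cases hj : j < d
  · have h0 : d * b + j < d * d := by nlinarith
    rcases lt_trichotomy r' r with h | rfl | h
    · have : d * (d * r' + b) + j < d * d * r := by nlinarith
      rw [if_neg h.ne]; simp; omega
    · rw [if_pos rfl, testBit_get, show d * (d * r' + b) + j = d * d * r' + (d * b + j) by ring]; simp
    · have : d * d * r + d * d ≤ d * (d * r' + b) + j := by nlinarith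
      rw [if_neg h.ne', Nat.testBit_lt_two_pow (x := M) (hM.trans_le (Nat.pow_le_pow_right two_pos (by omega)))]
      simp
  · split_ifs
    · rw [testBit_get]; simp [hj]
    · simp [hj]

theorem Val.zero (h : Mod d N ψ) (R : ℕ) (τ : ℕ → E) : Val d N ψ R τ 0 1 :=
  ⟨N.one_mem, fun b hb => by rw [h.one hb]; exact (sum_eq_zero fun r _ => by simp [get_eq, phi_zero]).symm⟩

theorem Val.step [N.Normal] (h : Mod d N ψ) {R : ℕ} {τ : ℕ → E} (hτ : ∀ r, τ r ∈ N) (hR : ∀ r, R ≤ r → τ r = 1)
    {acc : ℕ} {m g : E} (hm : Val d N ψ R τ acc m) {M : ℕ} (hM : M < 2 ^ (d * d)) (hg : Act d N ψ g M) (r : ℕ) :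
    Val d N ψ R τ (acc ^^^ M <<< (d * d * r)) (m * (g * τ r * g⁻¹)) := by
  have h1 := Subgroup.Normal.conj_mem ‹_› _ (hτ r) g
  refine ⟨N.mul_mem hm.1 h1, fun b hb => ?_⟩
  rw [h.add b hb _ hm.1 _ h1, hm.2 b hb, hg _ (hτ r) b hb]
  simp only [get_xor, phi_xor, sum_add_distrib, get_shift hb hM]
  congr 1
  by_cases hr : r < R
  · rw [sum_eq_single r]
    · rw [if_pos rfl]
    · intro r' _ h'; rw [if_neg h', phi_zero]
    · intro h'; exact absurd (mem_range.2 hr) h'
  · rw [hR r (by omega), h.phi_one]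
    exact (sum_eq_zero fun r' hr' => by rw [if_neg (by have := mem_range.1 hr'; omega), phi_zero]).symm

theorem run_spec [N.Normal] (h : Mod d N ψ) {n R T o : ℕ} {rules : List (List ℕ)} {X : ℕ → E} {g : E}
    (hτ : ∀ r, X (n + r) ∈ N) (hR : ∀ r, R ≤ r → X (n + r) = 1)
    (hT : ∀ e < 2 ^ n, Act d N ψ (g * sec X e n) (get (d * d) T (o + e)))
    (hr : ∀ j < n, ∀ a ≤ j, X j * X a = X (n + (tri j + a)) * wv X (nthL rules (tri j + a)))
    {f : ℕ} {st : List ℕ} {e acc x : ℕ} (hx : run n (d * d) T o rules f st e acc = x + 1) (he : e < 2 ^ n)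
    {m : E} (hm : Val d N ψ R (fun r => X (n + r)) acc m) :
    ∃ m', Val d N ψ R (fun r => X (n + r)) (x / 2 ^ n) m' ∧
      m * g * sec X e n * wv X st = m' * g * sec X (x % 2 ^ n) n := by
  induction f generalizing st e acc m with
  | zero => exact absurd hx (by change ¬0 = x + 1; omega)
  | succ f ih =>
    have s1 : ∀ a, Nat.shiftLeft 1 a = 2 ^ a := fun a => Nat.one_shiftLeft a
    cases st with
    | nil =>
      change (acc <<< n + e) + 1 = x + 1 at hx
      rw [Nat.shiftLeft_eq] at hx
      obtain rfl : x = e + 2 ^ n * acc := by rw [mul_comm]; omega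
      refine ⟨m, ?_, ?_⟩
      · rwa [Nat.add_mul_div_left _ _ (Nat.two_pow_pos n), Nat.div_eq_of_lt he, zero_add]
      · rw [Nat.add_mul_mod_self_left, Nat.mod_eq_of_lt he, wv_nil, mul_one]
    | cons a st =>
      change forceN a (fun a => cnd (Nat.ble n a)
        (forceN (acc ^^^ (get (d * d) T (o + e)) <<< (d * d * (a - n))) (run n (d * d) T o rules f st e))
        (cnd (blt e (Nat.shiftLeft 1 a))
          (forceN (e + Nat.shiftLeft 1 a) fun e => run n (d * d) T o rules f st e acc)
          (forceN (Nat.log2 e) fun j => forceN (tri j + a) fun r =>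
            forceN (e - Nat.shiftLeft 1 j) fun e =>
              run n (d * d) T o rules f ((n + r) :: cat (nthL rules r) st) e acc))) = x + 1 at hx
      simp only [forceN_eq, s1] at hx
      rw [wv_cons]
      cases h1 : Nat.ble n a with
      | true =>
        rw [h1, cnd_true] at hx
        obtain ⟨r, rfl⟩ := Nat.exists_eq_add_of_le (ble_iff.1 h1)
        rw [Nat.add_sub_cancel_left] at hx
        obtain ⟨m', h2, h3⟩ := ih hx he (hm.step h hτ hR (get_lt _ _ _) (hT e he) r)
        exact ⟨m', h2, by rw [← h3]; group⟩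
      | false =>
        rw [h1, cnd_false] at hx
        have ha : a < n := by rw [← not_le, ← ble_iff, h1]; simp
        cases h2 : blt e (2 ^ a) with
        | true =>
          rw [h2, cnd_true] at hx
          have h3 := blt_iff.1 h2
          have h4 : 2 ^ (a + 1) ≤ 2 ^ n := Nat.pow_le_pow_right two_pos ha
          obtain ⟨m', h5, h6⟩ := ih hx (by rw [pow_succ] at h4; omega) hm
          exact ⟨m', h5, by rw [← h6, sec_add X h3 ha]; group⟩
        | false =>
          rw [h2, cnd_false] at hx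
          have h3 : 2 ^ a ≤ e := by rw [← not_lt, ← blt_iff, h2]; simp
          have h0 : e ≠ 0 := by have := Nat.two_pow_pos a; omega
          have h4 := Nat.log2_self_le h0
          have h5 := Nat.lt_log2_self (n := e)
          have h6 : e.log2 < n := (Nat.log2_lt h0).2 he
          have h7 : a ≤ e.log2 := (Nat.le_log2 h0).2 h3
          obtain ⟨m', h8, h9⟩ := ih hx (by omega) hm
          refine ⟨m', h8, ?_⟩
          have h10 := sec_add X (e := e - 2 ^ e.log2) (a := e.log2) (by rw [pow_succ] at h5; omega) h6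
          rw [Nat.sub_add_cancel h4] at h10
          rw [← h9, wv_cons, wv_cat, h10, ← mul_assoc (X (n + _)), ← hr _ h6 _ h7]
          group

end Cfsg.Lib.Ext2
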