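import Cfsg.Agent.Lib.Ext2.Run
import Cfsg.Agent.Lib.Coprime.Gaschutz

/-!
# Certificates for the splitting of an extension by a module over the field with two elements

`Cert.split`: lifts `x a` of a power-conjugate sequence of a Sylow 2-subgroup of `E / N` and lifts `g k` of some fusing
elements define tails `tau r ∈ N`.  Collection gives linear relations between the tails; they show that modified lifts
generate a complement over the Sylow subgroup, and Gaschütz's theorem gives a complement.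
-/

set_option autoImplicit false
set_option linter.unusedSectionVars false

namespace Cfsg.Lib.Ext2

open Cfsg.Lib.Calc Cfsg.Lib.F2 Finset

variable {E : Type*} [Group E] {d : ℕ} {N : Subgroup E} {ψ : ℕ → E → ZMod 2}

/-! ### Gaussian elimination on packed rows -/

/-- Use the first `c` rows (width `W`) of `X` to clear the others; `O` is `ones W t`. -/
noncomputable def elim (W O c : ℕ) : ℕ → Bool :=
  Nat.rec (motive := fun _ => ℕ → Bool) (fun X => Nat.beq X (nat_lit 0)) (fun _ ih X =>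
    forceB (Nat.land X (msk W)) fun b => forceB (Nat.shiftRight X W) fun X =>
      forceB (Nat.xor X (Nat.mul (Nat.land (Nat.shiftRight X (Nat.log2 b)) O) b)) ih) c

theorem get_shiftRight (W X i : ℕ) : get W (X >>> W) i = get W X (i + 1) := by
  refine Nat.eq_of_testBit_eq fun j => ?_
  rw [testBit_get, testBit_get, Nat.testBit_shiftRight]; congr 2; ring

theorem elim_spec {Z : ℕ → Prop} (h0 : Z 0) (hx : ∀ a b, Z a → Z b → Z (a ^^^ b)) {W t c X : ℕ} (hW : 0 < W)
    (hc : c ≤ t) (h : elim W (ones W t) c X = true) (hZ : ∀ i < c, Z (get W X i)) {i : ℕ} (hi : i < t) :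
    Z (get W X i) := by
  induction c generalizing X i with
  | zero => obtain rfl : X = 0 := beq_iff.1 h; simpa [get_eq] using h0
  | succ c ih =>
    change forceB (X &&& msk W) (fun b => forceB (X >>> W) fun X =>
      forceB (X ^^^ (((X >>> b.log2) &&& ones W t) * b)) (elim W (ones W t) c)) = true at h
    simp only [forceB_eq] at h
    have e0 : X &&& msk W = get W X 0 := by change _ = (X >>> (W * 0)) &&& msk W; simp
    rw [e0] at h
    have hb := hZ 0 (by omega)
    have hl := get_lt W X 0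
    generalize get W X 0 = b at h hb hl
    have hp : b.log2 < W := by
      rcases Nat.eq_zero_or_pos b with rfl | h'
      · simpa using hW
      · exact (Nat.log2_lt h'.ne').2 hl
    have key : ∀ j < t, ∃ b', Z b' ∧
        get W (X >>> W ^^^ ((X >>> W >>> b.log2) &&& ones W t) * b) j = get W X (j + 1) ^^^ b' := fun j hj => by
      rw [get_xor, get_shiftRight, shift_land_ones hp, mul_comm, mul_pack, get_pack _ hj]
      · split_ifs
        · exact ⟨b, hb, by rw [mul_one]⟩
        · exact ⟨0, h0, by rw [mul_zero]⟩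
      · intro i _
        split_ifs
        · rwa [mul_one]
        · exact Nat.two_pow_pos W
    rcases i with _ | i
    · exact hZ 0 (by omega)
    · obtain ⟨b', h1, h2⟩ := key i (by omega)
      have h3 := ih (by omega) h (fun j hj => by
        obtain ⟨b', h1, h2⟩ := key j (by omega)
        rw [h2]; exact hx _ _ (hZ _ (by omega)) h1) (i := i) (by omega)
      have := hx _ _ h3 h1
      rwa [h2, Nat.xor_assoc, Nat.xor_self, Nat.xor_zero] at this

/-! ### Certificates -/

/-- The data of a certificate. -/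
structure Cert where
  d : ℕ
  n : ℕ
  R0 : ℕ
  K : ℕ
  F : ℕ
  ms : List ℕ
  gs : List ℕ
  ks : List ℕ
  l1 : List (List ℕ)
  l2 : List (List ℕ)
  ck : List ℕ
  cp : List (List ℕ)
  nus : List ℕ
  lam : ℕ

namespace Cert

variable (C : Cert)

/-- The tail of the defining relation number `r`. -/
noncomputable def tau (x g : ℕ → E) (r : ℕ) : E :=
  g (nth 0 C.ks r) * wv x (nthL C.l1 r) * (g (nth 0 C.ks r))⁻¹ * (wv x (nthL C.l2 r))⁻¹

/-- The table of the matrices of the elements `g k * sec e`. -/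
noncomputable def tab : ℕ :=
  pack (Nat.mul C.d C.d) (fun t => get (Nat.mul C.d C.d) (mat C.d C.ms (nth (nat_lit 0) C.gs (Nat.div t (2 ^ C.n)))
    (Nat.mod t (2 ^ C.n)) C.n) (nat_lit 0)) (Nat.mul C.K (2 ^ C.n))

/-- Collection of a word conjugated by `g k`. -/
noncomputable def go (T k : ℕ) (st : List ℕ) (e : ℕ) : ℕ :=
  run C.n (Nat.mul C.d C.d) T (Nat.mul k (2 ^ C.n)) C.l2 C.F st e (nat_lit 0)

/-- The sum of the linear forms of two words that collect to the same normal form (`1` if `k ≠ 0`), plus one. -/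
noncomputable def dif (T k : ℕ) (u v : List ℕ) : ℕ :=
  forceN (C.go T k u (nat_lit 0)) fun x => forceN (C.go T (nat_lit 0) v (nat_lit 0)) fun y =>
    cnd (band (band (blt 0 x) (blt 0 y)) (band (Nat.beq ((x - 1) % 2 ^ C.n) ((y - 1) % 2 ^ C.n))
      (bor (Nat.beq k 0) (Nat.beq ((x - 1) % 2 ^ C.n) 0)))) (Nat.succ (Nat.xor ((x - 1) / 2 ^ C.n) ((y - 1) / 2 ^ C.n))) 0

/-- The left sides of a list of pieces. -/
noncomputable def lw (ps : List ℕ) : List ℕ :=
  List.rec (motive := fun _ => List ℕ) [] (fun i _ ih =>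
    Bool.rec (motive := fun _ => List ℕ) (cat (nthL C.l1 (i - C.n)) ih) (i :: ih) (blt i C.n)) ps

/-- The right sides of a list of pieces. -/
noncomputable def rw (ps : List ℕ) : List ℕ :=
  List.rec (motive := fun _ => List ℕ) [] (fun i _ ih =>
    Bool.rec (motive := fun _ => List ℕ) (i :: cat (nthL C.l2 (i - C.n)) ih) (i :: ih) (blt i C.n)) ps

/-- The pieces belong to the fusing element `k`. -/
noncomputable def pOK (k : ℕ) (ps : List ℕ) : Bool :=
  band (blt k C.K) (allL ps fun i => Bool.rec (motive := fun _ => Bool)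
    (band (blt (i - C.n) C.R0) (Nat.beq (nth 0 C.ks (i - C.n)) k)) (Nat.beq k 0) (blt i C.n))

/-- The word in the modified letters. -/
noncomputable def md (l : List ℕ) : List ℕ :=
  List.rec (motive := fun _ => List ℕ) [] (fun a _ ih => (C.n + (C.R0 + a)) :: a :: ih) l

/-- The relations: definitions of the modifications, consequences of collection, and the targets. -/
noncomputable def rel (T c : ℕ) : ℕ :=
  cnd (blt c C.n) (Nat.xor (get (C.d * C.d * C.R0) (nth 0 C.nus c) 0) (Nat.shiftLeft (idM C.d) (C.d * C.d * (C.R0 + c))))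
    (cnd (blt c (C.n + C.ck.length))
      (cnd (C.pOK (nth 0 C.ck (c - C.n)) (nthL C.cp (c - C.n)))
        (C.dif T (nth 0 C.ck (c - C.n)) (C.lw (nthL C.cp (c - C.n))) (C.rw (nthL C.cp (c - C.n))) - 1) 0)
      (C.dif T 0 (C.md (nthL C.l1 (c - (C.n + C.ck.length)))) (C.md (nthL C.l2 (c - (C.n + C.ck.length)))) - 1))

/-- The width of a row. -/
def W : ℕ := C.d * (C.R0 + C.n)

/-- The rows of a relation. -/
noncomputable def blk (D : ℕ) : ℕ :=
  pack C.W (fun b => pack C.d (fun r => get C.d D (C.d * r + b)) (C.R0 + C.n)) C.d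

/-- All rows. -/
noncomputable def rows (T : ℕ) : ℕ :=
  get (C.d * C.R0) C.lam 0 +
    Nat.shiftLeft (pack (C.W * C.d) (fun c => forceN (C.rel T c) C.blk) (C.n + C.ck.length + tri C.n)) C.W

/-- The shape of the data. -/
noncomputable def shape : Bool :=
  band (band (blt 0 C.d) (band (blt 0 C.K) (band (blt 0 C.n) (Nat.beq (nth 0 C.gs 0) (idM C.d)))))
    (band (allLt C.R0 fun r => band (allL (nthL C.l1 r) fun a => blt a C.n) (allL (nthL C.l2 r) fun a => blt a C.n))
      (allLt C.n fun j => allLt (j + 1) fun a => band (band (blt (tri j + a) C.R0) (blt (tri j + a) (tri C.n)))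
        (band (Nat.beq (nth 0 C.ks (tri j + a)) 0) (decide (nthL C.l1 (tri j + a) = [j, a])))))

/-- The checks that use the table. -/
noncomputable def okT (T : ℕ) : Bool :=
  band (band (allLt (2 ^ C.n) fun e => allLt e fun e' =>
      Bool.rec true false (Nat.beq (get (C.d * C.d) T e) (get (C.d * C.d) T e')))
    (allLt (2 ^ C.n) fun e => allLt C.n fun a => blt 0 (C.go T 0 [a] e)))
    (band (allLt (tri C.n) fun r => blt 0 (C.dif T 0 (C.md (nthL C.l1 r)) (C.md (nthL C.l2 r))))
      (forceB (C.rows T) fun X => forceB (ones C.W (1 + C.d * (C.n + C.ck.length + tri C.n))) fun O =>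
        elim C.W O (1 + C.d * (C.n + C.ck.length)) X))

/-- The whole check. -/
noncomputable def ok : Bool := band C.shape (forceB C.tab C.okT)

variable {C}

/-- What the letters have to satisfy. -/
structure Sem (C : Cert) (N : Subgroup E) (ψ : ℕ → E → ZMod 2) (X g : ℕ → E) (R T : ℕ) : Prop where
  mem : ∀ r, X (C.n + r) ∈ N
  one : ∀ r, R ≤ r → X (C.n + r) = 1
  act : ∀ k < C.K, ∀ e < 2 ^ C.n, Act C.d N ψ (g k * sec X e C.n) (get (C.d * C.d) T (k * 2 ^ C.n + e))
  rule : ∀ j < C.n, ∀ a ≤ j, X j * X a = X (C.n + (tri j + a)) * wv X (nthL C.l2 (tri j + a))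
  g0 : g 0 = 1
  pos : 0 < C.K

theorem act_tab [N.Normal] {X g : ℕ → E} (hx : ∀ a < C.n, Act C.d N ψ (X a) (nth 0 C.ms a))
    (hg : ∀ k < C.K, Act C.d N ψ (g k) (nth 0 C.gs k)) {k : ℕ} (hk : k < C.K) {e : ℕ} (he : e < 2 ^ C.n) :
    Act C.d N ψ (g k * sec X e C.n) (get (C.d * C.d) C.tab (k * 2 ^ C.n + e)) := by
  have h1 : (k * 2 ^ C.n + e) / 2 ^ C.n = k := by
    rw [add_comm, Nat.add_mul_div_right _ _ (Nat.two_pow_pos _), Nat.div_eq_of_lt he, zero_add]
  have h2 : (k * 2 ^ C.n + e) % 2 ^ C.n = e := by rw [add_comm, Nat.add_mul_mod_self_right, Nat.mod_eq_of_lt he]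
  have : get (C.d * C.d) C.tab (k * 2 ^ C.n + e) = get (C.d * C.d) (mat C.d C.ms (nth 0 C.gs ((k * 2 ^ C.n + e) / 2 ^ C.n))
      ((k * 2 ^ C.n + e) % 2 ^ C.n) C.n) 0 :=
    get_pack (fun _ _ => get_lt _ _ _) (show _ < C.K * 2 ^ C.n by nlinarith)
  rw [this, h1, h2]
  exact ((hg k hk).mat hx e).trunc

variable {X g : ℕ → E} {R T : ℕ}

theorem Sem.go [N.Normal] (h : Mod C.d N ψ) (S : Sem C N ψ X g R T) {k : ℕ} (hk : k < C.K) {st : List ℕ} {e : ℕ}
    (he : e < 2 ^ C.n) (hx : 0 < C.go T k st e) : ∃ m, Val C.d N ψ R (fun r => X (C.n + r)) ((C.go T k st e - 1) / 2 ^ C.n) m ∧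
      g k * sec X e C.n * wv X st = m * g k * sec X ((C.go T k st e - 1) % 2 ^ C.n) C.n := by
  obtain ⟨m, h1, h2⟩ := run_spec h S.mem S.one (S.act k hk) S.rule (x := C.go T k st e - 1) (f := C.F) (st := st)
    (acc := 0) (by change C.go T k st e = _; omega) he (Val.zero h R _)
  exact ⟨m, h1, by rw [← h2, one_mul]⟩

/-- The rows of `D` vanish on the tails. -/
def Van (C : Cert) (ψ : ℕ → E → ZMod 2) (X : ℕ → E) (R D : ℕ) : Prop :=
  ∀ b < C.d, ∑ r ∈ range R, phi C.d ψ (get C.d D (C.d * r + b)) (X (C.n + r)) = 0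

theorem Sem.dif [N.Normal] (h : Mod C.d N ψ) (S : Sem C N ψ X g R T) {k : ℕ} (hk : k < C.K) {u v : List ℕ}
    (hx : 0 < C.dif T k u v) : Van C ψ X R (C.dif T k u v - 1) ↔ g k * wv X u * (g k)⁻¹ = wv X v := by
  rw [Cert.dif, forceN_eq, forceN_eq] at hx ⊢
  generalize hb : band _ _ = bb at hx ⊢
  cases bb
  · exact absurd hx (lt_irrefl 0)
  simp only [band_eq_true, bor_eq_true, blt_iff, beq_iff] at hb
  obtain ⟨⟨h1, h2⟩, h3, h4⟩ := hb
  obtain ⟨m, hm, e1⟩ := S.go h hk (Nat.two_pow_pos _) h1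
  obtain ⟨m', hm', e2⟩ := S.go h S.pos (Nat.two_pow_pos _) h2
  rw [sec_zero, mul_one] at e1 e2
  rw [S.g0, one_mul, mul_one, ← h3] at e2
  have key : g k * wv X u * (g k)⁻¹ = wv X v ↔ m = m' := by
    rw [e1, e2]
    rcases h4 with rfl | h4
    · rw [S.g0]; simp
    · rw [h4, sec_zero]; simp
  rw [key, cnd_true, Nat.succ_sub_one]
  change (∀ b < C.d, ∑ r ∈ range R, phi C.d ψ (get C.d (_ ^^^ _) _) _ = 0) ↔ _
  simp only [get_xor, phi_xor, sum_add_distrib]
  constructor
  · intro H
    refine h.ext _ hm.1 _ hm'.1 fun b hb => ?_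
    rw [hm.2 b hb, hm'.2 b hb]
    exact (CharTwo.add_eq_zero).1 (H b hb)
  · rintro rfl b hb
    rw [← hm.2 b hb, ← hm'.2 b hb, CharTwo.add_self_eq_zero]

theorem pieces (hg : g 0 = 1) (hd : ∀ r < C.R0, g (nth 0 C.ks r) * wv X (nthL C.l1 r) * (g (nth 0 C.ks r))⁻¹ =
    X (C.n + r) * wv X (nthL C.l2 r)) {k : ℕ} {ps : List ℕ} (h : C.pOK k ps = true) :
    g k * wv X (C.lw ps) * (g k)⁻¹ = wv X (C.rw ps) := by
  have h' := allL_iff.1 (band_eq_true.1 h).2
  clear h
  induction ps with
  | nil => change g k * 1 * _ = 1; simp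
  | cons i ps ih =>
    have h1 := h' i (by simp)
    have h2 := ih fun j hj => h' j (by simp [hj])
    change g k * wv X (Bool.rec (motive := fun _ => List ℕ) (cat (nthL C.l1 (i - C.n)) (C.lw ps)) (i :: C.lw ps) (blt i C.n)) * _ =
      wv X (Bool.rec (motive := fun _ => List ℕ) (i :: cat (nthL C.l2 (i - C.n)) (C.rw ps)) (i :: C.rw ps) (blt i C.n))
    cases hb : blt i C.n
    · rw [hb] at h1
      obtain ⟨h3, h4⟩ := band_eq_true.1 h1
      have h5 := hd _ (blt_iff.1 h3)
      have h6 : C.n ≤ i := by rw [← not_lt, ← blt_iff, hb]; simp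
      rw [beq_iff.1 h4, Nat.add_sub_cancel' h6] at h5
      change g k * wv X (cat _ _) * _ = wv X (i :: cat _ _)
      rw [wv_cons, wv_cat, wv_cat, ← mul_assoc (X i), ← h5, ← h2]; group
    · rw [hb] at h1
      obtain rfl : k = 0 := beq_iff.1 h1
      change g 0 * wv X (i :: _) * _ = wv X (i :: _)
      rw [wv_cons, wv_cons, ← h2, hg]; group

theorem wv_md (l : List ℕ) : wv X (C.md l) = wv (fun a => X (C.n + (C.R0 + a)) * X a) l := by
  induction l with
  | nil => rfl
  | cons a l ih => change wv X (_ :: a :: C.md l) = _; rw [wv_cons, wv_cons, wv_cons, ih, mul_assoc]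

theorem get_rows_zero (T : ℕ) : get C.W (C.rows T) 0 = get (C.d * C.R0) C.lam 0 := by
  have h1 : get (C.d * C.R0) C.lam 0 < 2 ^ C.W :=
    (get_lt _ _ _).trans_le (Nat.pow_le_pow_right two_pos (Nat.mul_le_mul_left _ (Nat.le_add_right _ _)))
  change get C.W (get (C.d * C.R0) C.lam 0 + _ <<< C.W) 0 = _
  rw [get_eq, Nat.shiftLeft_eq]
  simp [Nat.mod_eq_of_lt h1]

theorem get_rows {c b : ℕ} (hc : c < C.n + C.ck.length + tri C.n) (hb : b < C.d) {r : ℕ} (hr : r < C.R0 + C.n) :
    get C.d (get C.W (C.rows T) (C.d * c + b + 1)) r = get C.d (C.rel T c) (C.d * r + b) := by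
  have h1 : get (C.d * C.R0) C.lam 0 < 2 ^ C.W :=
    (get_lt _ _ _).trans_le (Nat.pow_le_pow_right two_pos (Nat.mul_le_mul_left _ (Nat.le_add_right _ _)))
  have h2 : ∀ D b, pack C.d (fun r => get C.d D (C.d * r + b)) (C.R0 + C.n) < 2 ^ C.W := fun D b =>
    pack_lt fun _ _ => get_lt _ _ _
  have h3 : C.rows T >>> C.W = pack (C.W * C.d) (fun c => forceN (C.rel T c) C.blk) (C.n + C.ck.length + tri C.n) := by
    change (get (C.d * C.R0) C.lam 0 + _ <<< C.W) >>> C.W = _
    rw [Nat.shiftRight_eq_div_pow, Nat.shiftLeft_eq, Nat.add_mul_div_right _ _ (Nat.two_pow_pos _)]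
    simp [Nat.div_eq_of_lt h1]
  rw [← get_shiftRight, h3, ← get_get hb, get_pack (fun c _ => by rw [forceN_eq]; exact pack_lt fun _ _ => h2 _ _) hc,
    forceN_eq, blk, get_pack (fun _ _ => h2 _ _) hb, get_pack (fun _ _ => get_lt _ _ _) hr]

theorem get_of_lt {w c i k : ℕ} (hc : c < 2 ^ (w * k)) (hi : k ≤ i) : get w c i = 0 := by
  rw [get_eq, Nat.div_eq_of_lt (hc.trans_le (Nat.pow_le_pow_right two_pos (Nat.mul_le_mul_left _ hi)))]; simp

theorem van_nu {τ : ℕ → E} {R n c v b : ℕ} (hc : c < n) (hb : b < d)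
    (h : ψ b (τ (R + c)) = ∑ r ∈ range R, phi d ψ (get d v (d * r + b)) (τ r)) :
    ∑ r ∈ range (R + n), phi d ψ (get d (get (d * d * R) v 0 ^^^ idM d <<< (d * d * (R + c))) (d * r + b)) (τ r) = 0 := by
  have h4 : idM d < 2 ^ (d * d) :=
    pack_lt fun i hi => by change 1 <<< i < _; rw [Nat.one_shiftLeft]; exact Nat.pow_lt_pow_right one_lt_two hi
  simp only [get_xor, phi_xor, sum_add_distrib, get_shift hb h4]
  have e1 : ∑ r ∈ range (R + n), phi d ψ (if r = R + c then get d (idM d) b else 0) (τ r) = ψ b (τ (R + c)) := by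
    rw [sum_eq_single (R + c) (fun r _ h' => by rw [if_neg h', phi_zero])
      (fun h' => absurd (mem_range.2 (by omega)) h'), if_pos rfl, get_idM hb, phi_two_pow hb]
  have e2 : ∑ r ∈ range n, phi d ψ (get d (get (d * d * R) v 0) (d * (R + r) + b)) (τ (R + r)) = 0 :=
    sum_eq_zero fun r _ => by
      rw [get_of_lt (k := d * R) (by rw [← mul_assoc]; exact get_lt _ _ _) (by nlinarith), phi_zero]
  have e3 : ∑ r ∈ range R, phi d ψ (get d (get (d * d * R) v 0) (d * r + b)) (τ r) = ψ b (τ (R + c)) := by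
    rw [h]
    exact sum_congr rfl fun r hr => by
      rw [mul_assoc, get_get (by have := mem_range.1 hr; nlinarith), mul_zero, zero_add]
  rw [e1, sum_range_add, e2, e3, add_zero]
  exact CharTwo.add_self_eq_zero _

/-- Letters that satisfy the rules without tails generate a complement over the Sylow subgroup. -/
theorem compl [Finite E] [N.Normal] (h : Mod C.d N ψ) {Y : ℕ → E} (S : Sem C N ψ Y g 0 T) (hT : C.okT T = true)
    {m : ℕ} (hm : Odd m) (hN : N.index = 2 ^ C.n * m) : ∃ H : Subgroup E, H ⊓ N = ⊥ ∧ H ⊔ N = ⊤ := by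
  obtain ⟨h1, h2⟩ := band_eq_true.1 (band_eq_true.1 hT).1
  have act : ∀ e < 2 ^ C.n, Act C.d N ψ (sec Y e C.n) (get (C.d * C.d) T e) := fun e he => by
    simpa [S.g0] using S.act 0 S.pos e he
  have inj : ∀ e < 2 ^ C.n, ∀ e' < 2 ^ C.n, (sec Y e C.n)⁻¹ * sec Y e' C.n ∈ N → e = e' := fun e he e' he' hh => by
    have h3 := (act e he).eq h (act e' he') hh (get_lt _ _ _) (get_lt _ _ _)
    rcases lt_trichotomy e e' with h4 | h4 | h4
    · have := of_allLt (of_allLt h1 he') h4
      rw [h3, beq_iff.2 rfl] at this; exact absurd this (by decide)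
    · exact h4
    · have := of_allLt (of_allLt h1 he) h4
      rw [h3, beq_iff.2 rfl] at this; exact absurd this (by decide)
  set K := Subgroup.closure (Set.range Y) with hK
  have mem : ∀ k ∈ K, ∃ e < 2 ^ C.n, sec Y e C.n = k := fun k hk => by
    have hk' : k ∈ Submonoid.closure (Set.range Y) := by
      rw [← Subgroup.closure_toSubmonoid_of_finite]; exact hk
    induction hk' using Submonoid.closure_induction_right with
    | one => exact ⟨0, Nat.two_pow_pos _, sec_zero _ _⟩
    | mul_right x hx y hy ih =>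
      obtain ⟨e, he, rfl⟩ := ih (by rw [← Subgroup.closure_toSubmonoid_of_finite] at hx; exact hx)
      obtain ⟨a, rfl⟩ := hy
      by_cases ha : a < C.n
      · obtain ⟨n, h3, h4⟩ := S.go h S.pos he (blt_iff.1 (of_allLt (of_allLt h2 he) ha))
        have : n = 1 := h.ext _ h3.1 _ N.one_mem fun b hb => by rw [h3.2 b hb, h.one hb]; simp
        refine ⟨_, Nat.mod_lt (C.go T 0 [a] e - 1) (Nat.two_pow_pos _), ?_⟩
        simpa [this, S.g0, wv] using h4.symm
      · obtain ⟨r, rfl⟩ := Nat.exists_eq_add_of_le (not_lt.1 ha)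
        exact ⟨e, he, by rw [S.one r (Nat.zero_le _), mul_one]⟩
  have hKN : N ⊓ K = ⊥ := by
    refine eq_bot_iff.2 fun k hk => ?_
    obtain ⟨e, he, rfl⟩ := mem k hk.2
    rw [← inj 0 (Nat.two_pow_pos _) e he (by simpa [sec_zero] using hk.1), sec_zero]; exact Subgroup.mem_bot.2 rfl
  have hc : Nat.card K = 2 ^ C.n := by
    rw [← Nat.card_fin (2 ^ C.n)]
    refine (Nat.card_eq_of_bijective (fun e : Fin (2 ^ C.n) => (⟨sec Y e C.n, sec_mem (fun a _ =>
      Subgroup.subset_closure (Set.mem_range_self a)) _⟩ : K)) ⟨fun e e' hh => Fin.ext (inj _ e.2 _ e'.2 ?_), fun k => ?_⟩).symm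
    · rw [show sec Y e C.n = sec Y e' C.n from congrArg Subtype.val hh]; simp
    · obtain ⟨e, he, hk⟩ := mem k k.2
      exact ⟨⟨e, he⟩, Subtype.ext hk⟩
  have : IsMulCommutative N := ⟨⟨fun a b => Subtype.ext (h.comm a.2 b.2)⟩⟩
  have hi : (N ⊔ K).index = m := by
    have e1 := Subgroup.relIndex_mul_index (le_sup_left : N ≤ N ⊔ K)
    rw [sup_comm, Subgroup.relIndex_sup_right, ← Subgroup.inf_relIndex_right, hKN, Subgroup.relIndex_bot_left, hc, hN,
      sup_comm] at e1
    exact Nat.eq_of_mul_eq_mul_left (Nat.two_pow_pos _) e1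
  have hp : IsPGroup 2 N := fun a => ⟨1, Subtype.ext (by simpa [pow_two] using h.sq a.2)⟩
  obtain ⟨k, hk⟩ := IsPGroup.iff_card.1 hp
  obtain ⟨H, h3, h4⟩ := Coprime.gaschutz_exists N (N ⊔ K) le_sup_left
    (by rw [hk, hi]; exact Nat.Coprime.pow_left _ (Nat.coprime_two_left.2 hm)) K hKN rfl
  exact ⟨H, by rwa [inf_comm], by rwa [sup_comm]⟩

/-- The splitting theorem. -/
theorem split [Finite E] [N.Normal] (hC : C.ok = true) (h : Mod C.d N ψ) {x g : ℕ → E} (g0 : g 0 = 1)
    (hx : ∀ a < C.n, Act C.d N ψ (x a) (nth 0 C.ms a)) (hg : ∀ k < C.K, Act C.d N ψ (g k) (nth 0 C.gs k))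
    (hτ : ∀ r < C.R0, C.tau x g r ∈ N) {m : ℕ} (hm : Odd m) (hN : N.index = 2 ^ C.n * m)
    (hl : ∑ r ∈ range C.R0, phi C.d ψ (get C.d C.lam r) (C.tau x g r) = 0) :
    ∃ H : Subgroup E, H ⊓ N = ⊥ ∧ H ⊔ N = ⊤ := by
  obtain ⟨hs, hT⟩ := band_eq_true.1 hC
  rw [forceB_eq] at hT
  simp only [shape, band_eq_true, allLt_iff, allL_iff, blt_iff, beq_iff, decide_eq_true_eq] at hs
  obtain ⟨⟨hd, hK, hn, -⟩, hw, hr⟩ := hs
  choose ν hν hν' using fun i => h.surj fun b =>
    ∑ r ∈ range C.R0, phi C.d ψ (get C.d (nth 0 C.nus i) (C.d * r + b)) (C.tau x g r)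
  let X : ℕ → E := fun a => if a < C.n then x a else if a < C.n + C.R0 then C.tau x g (a - C.n) else
    if a < C.n + C.R0 + C.n then ν (a - (C.n + C.R0)) else 1
  have X1 : ∀ a < C.n, X a = x a := fun a ha => if_pos ha
  have X2 : ∀ r < C.R0, X (C.n + r) = C.tau x g r := fun r hr => by
    simp only [X]; rw [if_neg (by omega), if_pos (by omega), Nat.add_sub_cancel_left]
  have X3 : ∀ r < C.n, X (C.n + (C.R0 + r)) = ν r := fun r hr => by
    simp only [X]; rw [if_neg (by omega), if_neg (by omega), if_pos (by omega)]; congr 1; omega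
  have hdef : ∀ r < C.R0, g (nth 0 C.ks r) * wv X (nthL C.l1 r) * (g (nth 0 C.ks r))⁻¹ =
      X (C.n + r) * wv X (nthL C.l2 r) := fun r hr => by
    rw [X2 r hr, wv_congr fun a ha => X1 a ((hw r hr).1 a ha), wv_congr fun a ha => X1 a ((hw r hr).2 a ha), tau]; group
  have S : Sem C N ψ X g (C.R0 + C.n) C.tab :=
    { mem := fun r => by
        simp only [X]
        split_ifs
        exacts [by omega, hτ _ (by omega), hν _, N.one_mem]
      one := fun r hr => by simp only [X]; rw [if_neg (by omega), if_neg (by omega), if_neg (by omega)]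
      act := fun k hk e he => act_tab (fun a ha => X1 a ha ▸ hx a ha) hg hk he
      rule := fun j hj a ha => by
        obtain ⟨⟨h1, -⟩, h2, h3⟩ := hr j hj a (by omega)
        have := hdef _ h1
        rwa [h2, h3, g0, one_mul, inv_one, mul_one, wv_cons, wv_cons, wv_nil, mul_one] at this
      g0 := g0, pos := hK }
  obtain ⟨h1, h2⟩ := band_eq_true.1 (band_eq_true.1 hT).2
  rw [forceB_eq, forceB_eq] at h2
  let Z : ℕ → Prop := fun v => ∑ r ∈ range (C.R0 + C.n), phi C.d ψ (get C.d v r) (X (C.n + r)) = 0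
  have hZ : ∀ c < C.n + C.ck.length + tri C.n, ∀ b < C.d, Z (get C.W (C.rows C.tab) (C.d * c + b + 1)) ↔
      ∑ r ∈ range (C.R0 + C.n), phi C.d ψ (get C.d (C.rel C.tab c) (C.d * r + b)) (X (C.n + r)) = 0 :=
    fun c hc b hb => by
      simp only [Z]; rw [sum_congr rfl fun r hr => by rw [get_rows hc hb (mem_range.1 hr)]]
  have van : ∀ c < C.n + C.ck.length, Van C ψ X (C.R0 + C.n) (C.rel C.tab c) := fun c hc => by
    rw [rel]
    by_cases h3 : c < C.n
    · rw [blt_iff.2 h3, cnd_true]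
      intro b hb
      refine van_nu (τ := fun r => X (C.n + r)) h3 hb ?_
      rw [X3 c h3, hν' c b hb]
      exact sum_congr rfl fun r hr => by rw [X2 r (mem_range.1 hr)]
    · have h4 : blt c C.n = false := by rw [← Bool.not_eq_true, blt_iff]; exact h3
      rw [h4, cnd_false, blt_iff.2 hc, cnd_true]
      have h0 : Van C ψ X (C.R0 + C.n) 0 := fun b _ => sum_eq_zero fun r _ => by simp [get_eq, phi_zero]
      cases h5 : C.pOK _ _
      · exact h0
      · rw [cnd_true]
        rcases Nat.eq_zero_or_pos (C.dif C.tab (nth 0 C.ck (c - C.n)) (C.lw (nthL C.cp (c - C.n)))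
          (C.rw (nthL C.cp (c - C.n)))) with h6 | h6
        · rw [h6]; exact h0
        · exact (S.dif h (blt_iff.1 (band_eq_true.1 h5).1) h6).2 (pieces g0 hdef h5)
  have all := fun i => elim_spec (Z := Z) (sum_eq_zero fun r _ => by simp [get_eq, phi_zero])
    (fun a b ha hb => by simp only [Z, get_xor, phi_xor, sum_add_distrib] at ha hb ⊢; rw [ha, hb, add_zero])
    (i := i) (W := C.W) (Nat.mul_pos hd (by omega)) (by nlinarith) h2 fun i hi => by
      rcases i with _ | i
      · simp only [Z]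
        rw [get_rows_zero, sum_range_add, sum_eq_zero (s := range C.n) fun r _ => by
          rw [get_of_lt (k := C.R0) (get_lt _ _ _) (by omega), phi_zero], add_zero, ← hl]
        exact sum_congr rfl fun r hr => by
          rw [get_get (mem_range.1 hr), mul_zero, zero_add, X2 r (mem_range.1 hr)]
      · obtain ⟨c, b, hb, rfl⟩ := exists_eq_mul_add hd i
        have hc : c < C.n + C.ck.length := by by_contra hc; nlinarith
        exact (hZ c (by omega) b hb).2 (van c hc b hb)
  let Y : ℕ → E := fun a => if a < C.n then ν a * x a else 1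
  have hY : ∀ {l : List ℕ}, (∀ a ∈ l, a < C.n) → wv X (C.md l) = wv Y l := fun hl => by
    rw [wv_md]; exact wv_congr fun a ha => by simp only [Y]; rw [if_pos (hl a ha), X3 a (hl a ha), X1 a (hl a ha)]
  refine compl h (Y := Y) (g := g) ?_ hT hm hN
  exact
    { mem := fun r => by simp only [Y]; rw [if_neg (by omega)]; exact N.one_mem
      one := fun r _ => by simp only [Y]; rw [if_neg (by omega)]
      act := fun k hk e he => act_tab (fun a ha => by
        simp only [Y]; rw [if_pos ha]; exact (hx a ha).left h (hν a)) hg hk he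
      rule := fun j hj a ha => by
        obtain ⟨⟨h3, h4⟩, h5, h6⟩ := hr j hj a (by omega)
        have h7 := (S.dif h hK (blt_iff.1 (of_allLt h1 h4))).1 fun b hb => by
          have h8 := (hZ (C.n + C.ck.length + (tri j + a)) (by omega) b hb).1 (all _ (by nlinarith))
          have e1 : blt (C.n + C.ck.length + (tri j + a)) C.n = false := by rw [← Bool.not_eq_true, blt_iff]; omega
          have e2 : blt (C.n + C.ck.length + (tri j + a)) (C.n + C.ck.length) = false := by
            rw [← Bool.not_eq_true, blt_iff]; omega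
          rwa [rel, e1, cnd_false, e2, cnd_false, Nat.add_sub_cancel_left] at h8
        rw [g0, hY (hw _ h3).1, hY (hw _ h3).2, h6, wv_cons, wv_cons, wv_nil] at h7
        simp only [Y] at h7 ⊢
        rw [if_neg (show ¬C.n + (tri j + a) < C.n by omega), ← h7]; group
      g0 := g0, pos := hK }

end Cert

end Cfsg.Lib.Ext2
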